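import Cfsg.Agent.Lib.Classical.FieldExtUnitary.Basic
import Cfsg.Agent.Lib.Classical.SubfieldOrth.Symp

/-!
# One axis gives every axis
-/

set_option autoImplicit false
set_option linter.unusedSectionVars false
set_option backward.isDefEq.respectTransparency false

open Module

namespace CfsgLib.Classical.FieldExtUnitary

open CfsgLib.Classical.SubfieldMax (coe_smul_eq)

section Pairs

variable {K V : Type*} [Field K] [Finite K] [AddCommGroup V] [Module K V] [FiniteDimensional K V] {τ : K →+* K}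
  {h : V →ₛₗ[τ] V →ₗ[K] K}

/-- The Gram coefficients of hyperbolic pairs. -/
def pairCoeff (c : K) (i j : Fin 2) : K := if i = j then 0 else if i = 0 then c else -c

/-- The model form of hyperbolic pairs. -/
def pairForm (τ : K →+* K) (c : K) (p : ℕ) : (Fin p × Fin 2 → K) →ₛₗ[τ] (Fin p × Fin 2 → K) →ₗ[K] K :=
  LinearMap.mk₂'ₛₗ τ (RingHom.id K) (fun x y => c * ∑ j, (τ (x (j, 0)) * y (j, 1) - τ (x (j, 1)) * y (j, 0)))
    (fun x x' y => by
      simp only [Pi.add_apply, map_add, add_mul, Finset.mul_sum, ← Finset.sum_add_distrib]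
      exact Finset.sum_congr rfl fun j _ => by ring)
    (fun a x y => by
      simp only [Pi.smul_apply, smul_eq_mul, map_mul, Finset.mul_sum]
      exact Finset.sum_congr rfl fun j _ => by ring)
    (fun x y y' => by
      simp only [Pi.add_apply, mul_add, Finset.mul_sum, ← Finset.sum_add_distrib]
      exact Finset.sum_congr rfl fun j _ => by ring)
    (fun a x y => by
      simp only [Pi.smul_apply, smul_eq_mul, RingHom.id_apply, Finset.mul_sum]
      exact Finset.sum_congr rfl fun j _ => by ring)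

theorem pairForm_apply (c : K) (p : ℕ) (x y : Fin p × Fin 2 → K) :
    pairForm τ c p x y = c * ∑ j, (τ (x (j, 0)) * y (j, 1) - τ (x (j, 1)) * y (j, 0)) := rfl

theorem pairForm_single (c : K) (p : ℕ) (i j : Fin p × Fin 2) :
    pairForm τ c p (Pi.single i 1) (Pi.single j 1) = if i.1 = j.1 then pairCoeff c i.2 j.2 else 0 := by
  classical
  obtain ⟨a, s⟩ := i
  obtain ⟨b, t⟩ := j
  rw [pairForm_apply, Finset.sum_eq_single a]
  · by_cases hab : a = b
    · subst hab
      fin_cases s <;> fin_cases t <;> simp [pairCoeff, Pi.single_apply]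
    · fin_cases s <;> fin_cases t <;> simp [hab, Pi.single_apply]
  · intro d _ hd
    fin_cases s <;> simp [hd, Pi.single_apply]
  · exact fun hn => absurd (Finset.mem_univ a) hn

/-- A basis of hyperbolic pairs with any given isotropic vector in first place. -/
theorem exists_pair_basis (hh : IsHermitian h) (hN : h.SeparatingRight) {c : K} (hc0 : c ≠ 0) (hc : c + τ c = 0)
    {p : ℕ} (hp : finrank K V = p * 2) (j₀ : Fin p) {u : V} (hu0 : u ≠ 0) (huu : h u u = 0) :
    ∃ b : Basis (Fin p × Fin 2) K V, b (j₀, 0) = u ∧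
      ∀ i j, h (b i) (b j) = if i.1 = j.1 then pairCoeff c i.2 j.2 else 0 := by
  classical
  have hcn : τ c = -c := eq_neg_of_add_eq_zero_right hc
  have hM : IsHermitian (pairForm τ c p) := ⟨hh.conj, fun x y => by
    rw [pairForm_apply, pairForm_apply, map_mul, map_sum, hcn, Finset.mul_sum, Finset.mul_sum]
    refine Finset.sum_congr rfl fun j _ => ?_
    rw [map_sub, map_mul, map_mul, hh.conj.invol, hh.conj.invol]
    ring⟩
  have hMN : (pairForm τ c p).SeparatingRight := fun y hy => funext fun ⟨j, s⟩ => by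
    have h0 := hy (Pi.single (j, 1) 1)
    have h1 := hy (Pi.single (j, 0) 1)
    rw [pairForm_apply, Finset.sum_eq_single j (fun d _ hd => by simp [hd, Pi.single_apply])
      (fun hn => absurd (Finset.mem_univ j) hn)] at h0 h1
    simp [Pi.single_apply, hc0] at h0 h1
    fin_cases s <;> simp [h0, h1]
  obtain ⟨e, he⟩ := hM.exists_isometry hh hMN hN (by
    rw [finrank_fintype_fun_eq_card, Fintype.card_prod, Fintype.card_fin, Fintype.card_fin, hp])
  have hw : e (Pi.single (j₀, 0) 1) ≠ 0 := by simp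
  obtain ⟨g, hg⟩ := hh.witt_family hN (a := fun _ : Unit => e (Pi.single (j₀, 0) 1)) (b := fun _ : Unit => u)
    (linearIndependent_unique_iff.2 hw) (linearIndependent_unique_iff.2 hu0) (fun _ _ => by
      rw [he, pairForm_single, if_pos rfl, huu]
      simp [pairCoeff])
  refine ⟨(Pi.basisFun K (Fin p × Fin 2)).map (e ≪≫ₗ g.1), ?_, fun i j => ?_⟩
  · simp only [Basis.map_apply, Pi.basisFun_apply, LinearEquiv.trans_apply]
    exact hg ()
  · simp only [Basis.map_apply, Pi.basisFun_apply, LinearEquiv.trans_apply]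
    rw [isomGroup_apply, he, pairForm_single]

end Pairs

variable {F K V : Type*} [Field F] [Field K] [Fintype F] [Finite K] [Algebra F K] [FiniteDimensional F K]
  [AddCommGroup V] [Module F V] [Module K V] [IsScalarTower F K V] [FiniteDimensional K V] [FiniteDimensional F V]
  {σ : F →+* F} {τ : K →+* K} {h : V →ₛₗ[τ] V →ₗ[K] K} {B : V →ₛₗ[σ] V →ₗ[F] F}
  {M : Subgroup (isomGroup B)}

variable (S : Setting h B M)
include S

/-- One axis at an isotropic vector forces the whole special group, in even relative dimension. -/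
theorem Setting.sIsom_le_of_axis (hev : Even (finrank K V)) {u : V} (hu0 : u ≠ 0) (huu : h u u = 0) (hu : IsTAxis M u) : sIsom B ≤ M := by
  classical
  obtain ⟨p, hp⟩ := hev
  have hp' : finrank K V = p * 2 := by omega
  have hp1 : 0 < p := by have := S.two; omega
  obtain ⟨c₀, hc₀0, hc₀⟩ := S.ext.conjF.exists_trace_zero
  obtain ⟨lam, hlam⟩ := S.ext.conjF.exists_not_fixed
  have hcK : algebraMap F K c₀ + τ (algebraMap F K c₀) = 0 := by
    rw [S.ext.compat, ← map_add, hc₀, map_zero]
  have hcK0 : algebraMap F K c₀ ≠ 0 := (map_ne_zero _).2 hc₀0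
  obtain ⟨b, hb₀, hb⟩ := exists_pair_basis S.herm S.sep hcK0 hcK hp' ⟨0, hp1⟩ hu0 huu
  set j₀ : Fin p := ⟨0, hp1⟩
  let F₀ : Subfield F := σ.eqLocusField (RingHom.id F)
  have hF₀ : ∀ {x : F}, x ∈ F₀ ↔ σ x = x := Iff.rfl
  -- the real structure
  let V₀ : Submodule F₀ V :=
    { carrier := {x | ∀ i, τ (b.repr x i) = b.repr x i}
      add_mem' := fun {x y} hx hy i => by
        simp only [map_add, Finsupp.add_apply, hx i, hy i]
      zero_mem' := fun i => by simp
      smul_mem' := fun c x hx i => by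
        rw [coe_smul_eq, ← algebraMap_smul K (c : F) x, map_smul, Finsupp.smul_apply, smul_eq_mul, map_mul, hx i,
          S.ext.compat, hF₀.1 c.2] }
  have hV₀ : ∀ {x : V}, x ∈ V₀ ↔ ∀ i, τ (b.repr x i) = b.repr x i := Iff.rfl
  have hbV : ∀ i (a : K), τ a = a → a • b i ∈ V₀ := fun i a ha => hV₀.2 fun j => by
    rw [map_smul, b.repr_self, Finsupp.smul_apply, Finsupp.single_apply, smul_eq_mul]
    split_ifs <;> simp [ha]
  have hskewG : ∀ i j : Fin 2, τ (pairCoeff (algebraMap F K c₀) i j) = -pairCoeff (algebraMap F K c₀) i j := by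
    intro i j
    unfold pairCoeff
    split_ifs <;> simp [eq_neg_of_add_eq_zero_right hcK]
  have hexp : ∀ x y : V, h x y = ∑ i, ∑ j, τ (b.repr x i) * b.repr y j *
      (if i.1 = j.1 then pairCoeff (algebraMap F K c₀) i.2 j.2 else 0) := fun x y => by
    conv_lhs => rw [← b.sum_repr x, ← b.sum_repr y]
    simp only [map_sum, map_smulₛₗ, LinearMap.sum_apply, LinearMap.smul_apply, smul_eq_mul, RingHom.id_apply, hb]
    rw [Finset.sum_comm]
    refine Finset.sum_congr rfl fun i _ => ?_
    rw [Finset.mul_sum]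
    exact Finset.sum_congr rfl fun j _ => by ring
  have hskew : ∀ x ∈ V₀, ∀ y ∈ V₀, τ (h x y) = -h x y := fun x hx y hy => by
    rw [hexp, ← Finset.sum_neg_distrib, map_sum]
    refine Finset.sum_congr rfl fun i _ => ?_
    rw [← Finset.sum_neg_distrib, map_sum]
    refine Finset.sum_congr rfl fun j _ => ?_
    rw [map_mul, map_mul, S.ext.conjK.invol, hV₀.1 hy j, hV₀.1 hx i]
    split_ifs
    · rw [hskewG]; ring
    · simp
  have halt : ∀ x ∈ V₀, h x x = 0 := fun x hx => by
    rw [hexp]
    simp only [Fintype.sum_prod_type, Fin.sum_univ_two, hV₀.1 hx _]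
    refine Finset.sum_eq_zero fun i _ => ?_
    simp only [pairCoeff, mul_ite, mul_zero, if_true, Finset.sum_ite_eq, Finset.mem_univ, zero_add, add_zero,
      Fin.isValue, one_ne_zero, zero_ne_one, if_false, Finset.sum_add_distrib]
    ring
  have hspan : Submodule.span F (V₀ : Set V) = ⊤ := by
    refine eq_top_iff.2 fun x _ => ?_
    rw [← b.sum_repr x]
    refine Submodule.sum_mem _ fun i _ => ?_
    obtain ⟨a, a', ha, ha', e⟩ := S.ext.exists_parts hlam (b.repr x i)
    rw [← e, add_smul, smul_assoc]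
    exact Submodule.add_mem _ (Submodule.subset_span (hbV i a ha))
      (Submodule.smul_mem _ _ (Submodule.subset_span (hbV i a' ha')))
  -- transitivity
  have hstep : ∀ x ∈ V₀, ∀ y ∈ V₀, h x y ≠ 0 → ∃ g ∈ M, g.1 x = y := by
    intro x hx y hy hxy
    have hyx : h y x ≠ 0 := fun e => hxy (S.herm.isRefl _ _ e)
    have hv : h (y - x) (y - x) = 0 := halt _ (V₀.sub_mem hy hx)
    have hc : (h y x)⁻¹ + τ (h y x)⁻¹ = 0 := by rw [map_inv₀, hskew y hy x hx, inv_neg, add_neg_cancel]
    obtain ⟨g, hg, hgx⟩ := S.exists_kTv hv hc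
    refine ⟨g, hg, ?_⟩
    rw [hgx, map_sub, LinearMap.sub_apply, halt x hx, sub_zero, inv_mul_cancel₀ hyx, one_smul, add_sub_cancel]
  have hpartner : ∀ x : V, x ≠ 0 → ∃ w ∈ V₀, h x w ≠ 0 := by
    intro x hx
    by_contra hno
    push Not at hno
    refine hx (S.sep x fun y => S.herm.isRefl _ _ ?_)
    rw [← b.sum_repr y, map_sum]
    refine Finset.sum_eq_zero fun i _ => ?_
    rw [map_smul, show b i = (1 : K) • b i from (one_smul K _).symm, hno _ (hbV i 1 (map_one τ)), smul_zero]
  have haxes : ∀ y ∈ V₀, IsTAxis M y := by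
    intro y hy
    rcases eq_or_ne y 0 with rfl | hy0
    · exact S.hermB.isTAxis_zero M
    have huV : u ∈ V₀ := by rw [← hb₀, show b (j₀, 0) = (1 : K) • b (j₀, 0) from (one_smul K _).symm]; exact hbV _ _ (map_one τ)
    by_cases huy : h u y = 0
    · obtain ⟨w, hw, huw⟩ := hpartner u hu0
      obtain ⟨w', hw', hyw⟩ := hpartner y hy0
      obtain ⟨v, hv, huv, hyv⟩ : ∃ v ∈ V₀, h u v ≠ 0 ∧ h y v ≠ 0 := by
        by_cases h1 : h y w = 0
        · by_cases h2 : h u w' = 0
          · exact ⟨w + w', V₀.add_mem hw hw', by simpa [h2] using huw, by simpa [h1] using hyw⟩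
          · exact ⟨w', hw', h2, hyw⟩
        · exact ⟨w, hw, huw, h1⟩
      obtain ⟨g₁, hg₁, e₁⟩ := hstep u huV v hv huv
      obtain ⟨g₂, hg₂, e₂⟩ := hstep v hv y hy fun e => hyv (S.herm.isRefl _ _ e)
      have := hu.map (mul_mem hg₂ hg₁)
      rwa [Subgroup.coe_mul, LinearEquiv.mul_apply, e₁, e₂] at this
    · obtain ⟨g, hg, e⟩ := hstep u huV y hy huy
      exact e ▸ hu.map hg
  have hR : SubfieldOrth.IsAFrame B V₀ c₀ lam :=
    ⟨S.hermB, S.sepB, fun c => Iff.rfl, hlam, hc₀0, eq_neg_of_add_eq_zero_right hc₀, fun x hx y hy => hF₀.2 (by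
      rw [map_mul, S.eq, ← S.ext.trace_conj, hskew x hx y hy, map_neg, eq_neg_of_add_eq_zero_right hc₀]
      ring), fun x hx => by rw [S.eq, halt x hx, map_zero], hspan⟩
  -- an element leaving the real structure
  obtain ⟨κ, hκ, hκF, hκN⟩ := S.circ
  obtain ⟨a, ha0, ha⟩ := S.ext.conjK.exists_div_eq hκ
  have hτa : τ a ≠ 0 := (map_ne_zero τ).2 ha0
  let d : Fin p × Fin 2 → K := fun i =>
    if i.1 = j₀ then (if i.2 = 0 then a else (τ a)⁻¹)
    else if (i.1 : ℕ) = 1 then (if i.2 = 0 then τ a else a⁻¹) else 1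
  have hd : ∀ i j : Fin p × Fin 2, i.1 = j.1 → i.2 ≠ j.2 → τ (d i) * d j = 1 := by
    rintro ⟨i, s⟩ ⟨j, t⟩ (rfl : i = j) hst
    simp only [d]
    by_cases hi : i = j₀
    · fin_cases s <;> fin_cases t <;> first
        | exact absurd rfl hst
        | simp [hi, ha0, hτa, S.ext.conjK.invol]
    · by_cases hi1 : (i : ℕ) = 1
      · fin_cases s <;> fin_cases t <;> first
          | exact absurd rfl hst
          | simp [hi, hi1, ha0, hτa, S.ext.conjK.invol]
      · simp [hi, hi1]
  let L : V →ₗ[K] V := b.constr K fun i => d i • b i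
  have hLb : ∀ i, L (b i) = d i • b i := fun i => b.constr_basis K _ i
  obtain ⟨e, he⟩ := S.herm.exists_of_preserving S.sep L fun x y => by
    refine LinearMap.congr_fun (LinearMap.congr_fun (f := (h.comp L).compl₂ L) (g := h)
      (b.ext fun i => b.ext fun j => ?_) x) y
    simp only [LinearMap.compl₂_apply, LinearMap.comp_apply, hLb, map_smulₛₗ, LinearMap.smul_apply,
      RingHom.id_apply, smul_eq_mul, hb]
    by_cases h1 : i.1 = j.1
    · by_cases h2 : i.2 = j.2
      · simp [pairCoeff, h1, h2]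
      · rw [if_pos h1, ← mul_assoc, mul_comm (d j), hd i j h1 h2, one_mul]
    · simp [h1]
  have hdet : idet h e = ∏ i, d i := by
    have e1 : (e.1 : V →ₗ[K] V) = L := LinearMap.ext he
    change LinearMap.det (e.1 : V →ₗ[K] V) = _
    rw [e1, ← LinearMap.det_toMatrix b, show LinearMap.toMatrix b b L = Matrix.diagonal d from ?_, Matrix.det_diagonal]
    ext i j
    rw [LinearMap.toMatrix_apply, hLb, map_smul, b.repr_self, Finsupp.smul_apply, Finsupp.single_apply,
      Matrix.diagonal_apply, smul_eq_mul]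
    by_cases hij : i = j
    · subst hij; simp
    · simp [hij, Ne.symm hij]
  have hnorm : Algebra.norm F (idet h e) = 1 := by
    rw [hdet, Fintype.prod_prod_type]
    simp only [Fin.prod_univ_two]
    have h0 : d (j₀, 0) * d (j₀, 1) = κ := by
      simp only [d, if_pos, Fin.isValue, one_ne_zero, if_false]
      rw [← div_eq_mul_inv, div_eq_iff hτa]
      exact ha
    by_cases hp2 : p = 1
    · subst hp2
      rw [Fin.prod_univ_one]
      exact h0 ▸ hκN (by omega)
    let j₁ : Fin p := ⟨1, by omega⟩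
    have hne : j₀ ≠ j₁ := by simp [j₀, j₁]
    rw [← Finset.prod_subset (Finset.subset_univ {j₀, j₁}) fun j _ hj => ?_, Finset.prod_pair hne, h0]
    · have h1 : d (j₁, 0) * d (j₁, 1) = τ a / a := by
        simp [d, Ne.symm hne, j₁, div_eq_mul_inv]
      rw [h1]
      have : κ * (τ a / a) = 1 := by
        rw [← mul_div_assoc, div_eq_one_iff_eq ha0]; exact ha.symm
      rw [this, map_one]
    · simp only [Finset.mem_insert, Finset.mem_singleton, not_or] at hj
      have : (j : ℕ) ≠ 1 := fun e => hj.2 (Fin.ext e)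
      simp [d, hj.1, this]
  obtain ⟨g, hg, hgx⟩ := S.exists_mem e hnorm
  refine hR.symp_top haxes (by rw [← finrank_mul_finrank F K V]; have := S.three; have := S.two; nlinarith) hg ?_
  rintro ⟨s, hs, hsV⟩
  have h1 := hsV _ (hbV (j₀, 0) 1 (map_one τ))
  rw [hgx, one_smul, he, hLb, show d (j₀, 0) = a by simp [d], ← algebraMap_smul K s, smul_smul] at h1
  have h2 := hV₀.1 h1 (j₀, 0)
  rw [map_smul, b.repr_self, Finsupp.smul_apply, Finsupp.single_eq_same, smul_eq_mul, mul_one, map_mul,
    S.ext.compat] at h2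
  refine hκF (σ s / s) (mul_right_cancel₀ hτa ?_)
  rw [← ha, map_div₀, div_mul_eq_mul_div, div_eq_iff ((map_ne_zero _).2 hs), h2, mul_comm]

end CfsgLib.Classical.FieldExtUnitary
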