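import Cfsg.Agent.Lib.Classical.FieldExtUnitary.Conj
import Cfsg.Agent.Lib.Classical.FieldExtMax.Lines
import Cfsg.Agent.Lib.Classical.HermMax

/-!
# Unitary groups over extensions of odd prime degree: the setting and elements over the extension
-/

set_option autoImplicit false
set_option linter.unusedSectionVars false

open Module

namespace CfsgLib.Classical.FieldExtUnitary

open CfsgLib.Classical.FieldExtMax (line mem_line smul_mem_line self_mem_line finrank_line)

variable {F K V : Type*} [Field F] [Field K] [Finite F] [Finite K] [Algebra F K] [FiniteDimensional F K]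
  [AddCommGroup V] [Module F V] [Module K V] [IsScalarTower F K V] [FiniteDimensional K V] [FiniteDimensional F V]
  {σ : F →+* F} {τ : K →+* K} {h : V →ₛₗ[τ] V →ₗ[K] K} {B : V →ₛₗ[σ] V →ₗ[F] F}
  {M : Subgroup (isomGroup B)}

/-- `B` is the trace of a Hermitian form over an extension of odd prime degree, and `M` contains the isometries
of that form whose determinant has norm one. -/
structure Setting (h : V →ₛₗ[τ] V →ₗ[K] K) (B : V →ₛₗ[σ] V →ₗ[F] F) (M : Subgroup (isomGroup B)) : Prop where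
  ext : IsExtConj σ τ
  herm : IsHermitian h
  sep : h.SeparatingRight
  hermB : IsHermitian B
  eq : ∀ x y, B x y = Algebra.trace F K (h x y)
  prime : (finrank F K).Prime
  three : 3 ≤ finrank F K
  two : 2 ≤ finrank K V
  circ : ∃ κ : K, κ * τ κ = 1 ∧ (∀ c : F, algebraMap F K c ≠ κ) ∧ (finrank K V = 2 → Algebra.norm F κ = 1)
  mem : ∀ e : isomGroup h, Algebra.norm F (idet h e) = 1 → ∀ g : isomGroup B, (∀ x, g.1 x = e.1 x) → g ∈ M

/-- The map `1 + A` belongs to `M`. -/
def HasU (M : Subgroup (isomGroup B)) (A : V →ₗ[F] V) : Prop := ∃ g ∈ M, ∀ x, g.1 x = x + A x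

theorem HasU.congr {A A' : V →ₗ[F] V} (hA : HasU M A) (e : ∀ x, A x = A' x) : HasU M A' := by
  obtain ⟨g, hg, hx⟩ := hA
  exact ⟨g, hg, fun x => by rw [hx, e]⟩

theorem HasU.zero : HasU M (0 : V →ₗ[F] V) := ⟨1, M.one_mem, fun x => by simp⟩

theorem HasU.add {A A' : V →ₗ[F] V} (hA : HasU M A) (hA' : HasU M A') (h0 : ∀ x, A (A' x) = 0) :
    HasU M (A + A') := by
  obtain ⟨g, hg, hx⟩ := hA
  obtain ⟨g', hg', hx'⟩ := hA'
  refine ⟨g * g', mul_mem hg hg', fun x => ?_⟩
  rw [Subgroup.coe_mul, LinearEquiv.mul_apply, hx', hx, map_add, h0, LinearMap.add_apply]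
  abel

theorem HasU.neg {A : V →ₗ[F] V} (hA : HasU M A) (h0 : ∀ x, A (A x) = 0) : HasU M (-A) := by
  obtain ⟨g, hg, hx⟩ := hA
  refine ⟨g⁻¹, inv_mem hg, fun x => g.1.injective ?_⟩
  rw [hx (x + (-A) x)]
  simpa [h0] using g.1.apply_symm_apply x

theorem HasU.conj {A : V →ₗ[F] V} (hA : HasU M A) {t : isomGroup B} (ht : t ∈ M) :
    HasU M ((t.1 : V →ₗ[F] V) ∘ₗ A ∘ₗ (t.1.symm : V →ₗ[F] V)) := by
  obtain ⟨g, hg, hx⟩ := hA
  refine ⟨t * g * t⁻¹, mul_mem (mul_mem ht hg) (inv_mem ht), fun x => ?_⟩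
  change t.1 (g.1 (t.1.symm x)) = _
  rw [hx, map_add, t.1.apply_symm_apply]
  rfl

namespace Setting

variable (S : Setting h B M)
include S

theorem sepB : B.SeparatingRight := fun y hy => by
  refine S.sep y fun x => ?_
  by_contra hne
  obtain ⟨a, ha, hne'⟩ := S.ext.exists_fixed_trace hne
  refine hne' ?_
  have h1 := hy (a • x)
  rwa [S.eq, map_smulₛₗ, LinearMap.smul_apply, smul_eq_mul, ha] at h1

theorem line_isotropic {a x y : V} (haa : h a a = 0) (hx : x ∈ line F K a) (hy : y ∈ line F K a) : B x y = 0 := by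
  obtain ⟨k, rfl⟩ := mem_line.1 hx
  obtain ⟨l, rfl⟩ := mem_line.1 hy
  simp [S.eq, map_smulₛₗ, haa]

theorem image_isotropic (g : isomGroup B) {a x y : V} (haa : h a a = 0)
    (hx : x ∈ (line F K a).map (g.1 : V →ₗ[F] V)) (hy : y ∈ (line F K a).map (g.1 : V →ₗ[F] V)) : B x y = 0 := by
  obtain ⟨x', hx', rfl⟩ := hx
  obtain ⟨y', hy', rfl⟩ := hy
  exact (g.2 x' y').trans (S.line_isotropic haa hx' hy')

theorem h_zero_of_forall {x z : V} (hxz : ∀ k : K, B x (k • z) = 0) : h x z = 0 := by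
  by_contra hne
  obtain ⟨a, -, ha⟩ := S.ext.exists_fixed_trace hne
  exact ha (by simpa [S.eq] using hxz a)

/-- Isometries over `K` with a determinant of norm one act in `M`. -/
theorem exists_mem (e : isomGroup h) (he : Algebra.norm F (idet h e) = 1) :
    ∃ g ∈ M, ∀ x, g.1 x = e.1 x := by
  let g : isomGroup B := ⟨e.1.restrictScalars F, fun x y => by
    change B (e.1 x) (e.1 y) = B x y
    rw [S.eq, S.eq, isomGroup_apply]⟩
  exact ⟨g, S.mem e he g fun x => rfl, fun x => rfl⟩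

theorem exists_kTv {v : V} (hv : h v v = 0) {c : K} (hc : c + τ c = 0) :
    ∃ g ∈ M, ∀ x, g.1 x = x + (c * h v x) • v := by
  obtain ⟨e, he⟩ := S.herm.exists_uTv S.sep hv hc
  obtain ⟨g, hg, hgx⟩ := S.exists_mem e (by rw [S.herm.idet_uTv he, map_one])
  exact ⟨g, hg, fun x => by rw [hgx, he.2.2]⟩

theorem hasU_kTv {v : V} (hv : h v v = 0) {c : K} (hc : c + τ c = 0) :
    HasU M (((c • h v).smulRight v).restrictScalars F) := by
  obtain ⟨g, hg, hgx⟩ := S.exists_kTv hv hc
  exact ⟨g, hg, fun x => by rw [hgx]; rfl⟩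

theorem exists_eichler {z v : V} (hz : h z z = 0) (hvz : h v z = 0) :
    ∃ g ∈ M, g.1 z = z ∧ ∀ x, h z x = 0 → g.1 x = x + h v x • z := by
  have hzv : h z v = 0 := S.herm.isRefl _ _ hvz
  obtain ⟨μ, hμ⟩ := S.ext.conjK.exists_trace_eq (a := -h v v) (by rw [map_neg, S.herm.self_fixed])
  have hz' : (h v) z = 0 := hvz
  set T₁ := LinearMap.transvection (h v) z
  set T₂ := LinearMap.transvection (-h z) v
  set T₃ := LinearMap.transvection ((μ + h v v) • h z) z
  have hL : ∀ x, (T₁ * T₂ * T₃) x = x + h v x • z - h z x • v + (μ * h z x) • z := fun x => by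
    simp only [T₁, T₂, T₃, Module.End.mul_apply, LinearMap.transvection.apply, LinearMap.smul_apply,
      LinearMap.neg_apply, map_add, map_smul, smul_eq_mul, hz, hvz, mul_zero, add_zero]
    module
  obtain ⟨e, he⟩ := S.herm.exists_of_preserving S.sep (T₁ * T₂ * T₃) fun x y => by
    simp only [hL, map_add, map_sub, map_smul, map_smulₛₗ, LinearMap.add_apply, LinearMap.sub_apply,
      LinearMap.smul_apply, smul_eq_mul, map_mul, hz, hvz, hzv, S.herm.symm, RingHom.id_apply]
    linear_combination (h z y * h x z) * hμ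
  have hdet : idet h e = 1 := by
    have e1 : (e.1 : V →ₗ[K] V) = T₁ * T₂ * T₃ := LinearMap.ext he
    change LinearMap.det (e.1 : V →ₗ[K] V) = 1
    rw [e1, map_mul, map_mul, LinearMap.transvection.det, LinearMap.transvection.det, LinearMap.transvection.det]
    simp [hz, hvz, hzv]
  obtain ⟨g, hg, hgx⟩ := S.exists_mem e (by rw [hdet, map_one])
  refine ⟨g, hg, ?_, fun x hx => ?_⟩
  · rw [hgx, he, hL, hvz, hz]; simp
  · rw [hgx, he, hL, hx]; simp

theorem exists_scale {z : V} (hz : h z z = 0) (hz0 : z ≠ 0) {a : K} (ha : τ a = a) (ha0 : a ≠ 0) :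
    ∃ g ∈ M, ∀ l : K, g.1 (l • z) = (l * a) • z := by
  obtain ⟨f, -, hf, hzf⟩ := S.herm.exists_partner (W := (⊤ : Submodule K V))
    (nondegOn_iff.2 fun x _ hx => S.sep x fun w => hx w trivial) trivial hz0 hz
  obtain ⟨e, hez, -, -, hed⟩ := S.herm.exists_torus S.sep hz hf hzf ha0
  obtain ⟨g, hg, hgx⟩ := S.exists_mem e (by rw [hed, ha, div_self ha0, map_one])
  exact ⟨g, hg, fun l => by rw [hgx, map_smul, hez, smul_smul]⟩

end Setting

end CfsgLib.Classical.FieldExtUnitary
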