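import Cfsg.Agent.Lib.Classical.FieldExtUnitary.Basic
import Cfsg.Agent.Lib.Classical.HermGSimMax

/-!
# One axis gives every axis in relative dimension at least three
-/

set_option autoImplicit false
set_option linter.unusedSectionVars false

open Module

namespace CfsgLib.Classical.FieldExtUnitary

variable {F K V : Type*} [Field F] [Fintype F] [Field K] [Finite K] [Algebra F K] [FiniteDimensional F K]
  [AddCommGroup V] [Module F V] [Module K V] [IsScalarTower F K V] [FiniteDimensional K V] [FiniteDimensional F V]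
  {σ : F →+* F} {τ : K →+* K} {h : V →ₛₗ[τ] V →ₗ[K] K} {B : V →ₛₗ[σ] V →ₗ[F] F}
  {M : Subgroup (isomGroup B)}

/-- A trace zero fixed scalar is a multiple of `τ k - k` with `k` of trace one. -/
theorem exists_trace_one_pre {σ : F →+* F} {τ : K →+* K} (hτ : IsExtConj σ τ) {d : K} (hd : d + τ d = 0)
    (htr : Algebra.trace F K d = 0) : ∃ k : K, τ k - k = d ∧ Algebra.trace F K k = 1 := by
  obtain ⟨μ, hμ⟩ := hτ.conjK.exists_trace_eq (map_one τ)
  have h0 : τ (-(μ * d)) - -(μ * d) = d := by
    rw [map_neg, map_mul, eq_neg_of_add_eq_zero_right hd]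
    linear_combination d * hμ
  have hk₁ : σ (Algebra.trace F K (-(μ * d))) = Algebra.trace F K (-(μ * d)) := by
    rw [← hτ.trace_conj, ← sub_eq_zero, ← map_sub, h0, htr]
  obtain ⟨a, ha, hat⟩ := hτ.exists_fixed_trace (one_ne_zero (α := K))
  rw [mul_one] at hat
  set s := (1 - Algebra.trace F K (-(μ * d))) / Algebra.trace F K a
  have hs : σ s = s := by
    simp only [s]
    rw [map_div₀, map_sub, map_one, hk₁, ← hτ.trace_conj, ha]
  refine ⟨-(μ * d) + s • a, ?_, ?_⟩
  · rw [map_add, hτ.fixed_smul hs ha, add_sub_add_right_eq_sub, h0]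
  · rw [map_add, map_smul, smul_eq_mul, div_mul_cancel₀ _ hat]
    ring

variable (S : Setting h B M)
include S

/-- `M` is transitive on non-zero vectors of any given length. -/
theorem Setting.exists_to (hm : 3 ≤ finrank K V) {x w : V} (hx : x ≠ 0) (hw : w ≠ 0) (hxw : h x x = h w w) :
    ∃ g ∈ M, g.1 x = w := by
  obtain ⟨e, he⟩ := S.herm.witt_family S.sep (a := fun _ : Unit => x) (b := fun _ : Unit => w)
    (linearIndependent_unique_iff.2 hx) (linearIndependent_unique_iff.2 hw) (fun _ _ => hxw)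
  have hδ := S.herm.idet_norm S.sep e
  obtain ⟨z, hz, hzz⟩ := S.herm.exists_anisotropic_perp S.sep (Submodule.span K {w})
    (by rw [finrank_span_singleton hw]; omega)
  obtain ⟨e', he', hdet⟩ := S.herm.exists_qr S.sep hzz (l := τ (idet h e))
    (by rw [S.ext.conjK.invol, mul_comm, hδ])
  obtain ⟨g, hg, hgx⟩ := S.exists_mem (e' * e) (by rw [map_mul, hdet, mul_comm, hδ, map_one])
  refine ⟨g, hg, ?_⟩
  rw [hgx, Subgroup.coe_mul, LinearEquiv.mul_apply, he (), he',
    S.herm.isRefl _ _ (mem_perp_span.1 hz w rfl), mul_zero, zero_smul, add_zero]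

/-- One axis at an isotropic vector forces the whole special group, in relative dimension at least three. -/
theorem Setting.sIsom_le_of_axis_big (hm : 3 ≤ finrank K V) {u : V} (hu0 : u ≠ 0) (huu : h u u = 0)
    (hu : IsTAxis M u) : sIsom B ≤ M := by
  have hiso : ∀ x : V, h x x = 0 → IsTAxis M x := fun x hx => by
    rcases eq_or_ne x 0 with rfl | hx0
    · exact S.hermB.isTAxis_zero M
    · obtain ⟨g, hg, e⟩ := S.exists_to hm hu0 hx0 (huu.trans hx.symm)
      exact e ▸ hu.map hg
  have hdim : 4 ≤ finrank F V := by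
    rw [← finrank_mul_finrank F K V]
    have := S.three
    nlinarith
  refine S.hermB.sIsom_le_of_axes S.sepB hdim fun w hw => ?_
  by_cases hww : h w w = 0
  · exact hiso w hww
  have hw0 : w ≠ 0 := fun e => hww (by simp [e])
  obtain ⟨c, hc0, hc⟩ := S.ext.conjF.exists_trace_zero
  have hinv : σ c⁻¹ = -c⁻¹ := by rw [map_inv₀, eq_neg_of_add_eq_zero_right hc, inv_neg]
  have hd : c⁻¹ • h w w + τ (c⁻¹ • h w w) = 0 := by
    rw [S.ext.map_smul', S.herm.self_fixed, hinv, neg_smul, add_neg_cancel]
  have htr : Algebra.trace F K (c⁻¹ • h w w) = 0 := by rw [map_smul, ← S.eq, hw, smul_zero]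
  obtain ⟨k, hk, hk1⟩ := exists_trace_one_pre S.ext hd htr
  obtain ⟨x, y, -, -, hxx, hyy, hxy⟩ := S.herm.exists_hyp_in
    (nondegOn_iff.2 fun v _ hv => S.sep v fun u => hv u trivial : NondegOn h (⊤ : Submodule K V))
    (by rw [finrank_top]; exact S.two)
  set y' := k • y with hy'
  have hyy' : h y' y' = 0 := by simp [hy', map_smulₛₗ, hyy]
  have hxy' : h x y' = k := by rw [hy', map_smul, hxy, smul_eq_mul, mul_one]
  have hB1 : B x y' = 1 := by rw [S.eq, hxy', hk1]
  have hBx : B x x = 0 := by rw [S.eq, hxx, map_zero]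
  have haxis : IsTAxis M (y' + (c * B x y') • x) :=
    S.hermB.axis_step S.sepB (hiso x hxx) hBx (hiso y' hyy') hc
  rw [hB1, mul_one] at haxis
  have hval : h (y' + c • x) (y' + c • x) = h w w := by
    rw [S.herm.add_self, hyy', ← algebraMap_smul K c x, S.herm.smul_self, hxx, map_smul, smul_eq_mul,
      ← S.herm.symm x y', hxy', map_mul, S.ext.conjK.invol, S.ext.compat, eq_neg_of_add_eq_zero_right hc,
      map_neg]
    have h1 : algebraMap F K c * (c⁻¹ • h w w) = h w w := by
      rw [mul_smul_comm, ← Algebra.smul_def, smul_smul, inv_mul_cancel₀ hc0, one_smul]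
    linear_combination (algebraMap F K c) * hk + h1
  have hne : y' + c • x ≠ 0 := fun e => hww (by rw [← hval, e]; simp)
  obtain ⟨g, hg, e⟩ := S.exists_to hm hne hw0 hval
  exact e ▸ haxis.map hg

end CfsgLib.Classical.FieldExtUnitary
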