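import Cfsg.Agent.Lib.Classical.HermField
import Cfsg.Agent.Lib.Classical.FieldExtMax.Spread

/-!
# A conjugation extended to a field extension of finite fields
-/

set_option autoImplicit false
set_option linter.unusedSectionVars false

open Module

namespace CfsgLib.Classical.FieldExtUnitary

variable {F K : Type*} [Field F] [Field K] [Finite F] [Algebra F K] [FiniteDimensional F K]
  {σ : F →+* F} {τ : K →+* K}

/-- `τ` is a conjugation of `K` restricting to the conjugation `σ` of `F`. -/
structure IsExtConj (σ : F →+* F) (τ : K →+* K) : Prop where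
  conjF : IsConjugation σ
  conjK : IsConjugation τ
  compat : ∀ c, τ (algebraMap F K c) = algebraMap F K (σ c)

namespace IsExtConj

variable (hτ : IsExtConj σ τ)
include hτ

theorem map_smul' (c : F) (x : K) : τ (c • x) = σ c • τ x := by
  rw [Algebra.smul_def, map_mul, hτ.compat, ← Algebra.smul_def]

/-- The automorphism of `F` underlying `σ`. -/
noncomputable def equivF : F ≃+* F :=
  RingEquiv.ofBijective σ ⟨σ.injective, fun a => ⟨σ a, hτ.conjF.invol a⟩⟩

/-- The automorphism of `K` underlying `τ`. -/
noncomputable def equivK : K ≃+* K :=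
  RingEquiv.ofBijective τ ⟨τ.injective, fun a => ⟨τ a, hτ.conjK.invol a⟩⟩

theorem trace_conj (x : K) : Algebra.trace F K (τ x) = σ (Algebra.trace F K x) := by
  rw [Algebra.trace_eq_of_equiv_equiv hτ.equivF hτ.equivK (RingHom.ext fun c => (hτ.compat c).symm) x]
  exact (hτ.equivF.apply_symm_apply _).symm

theorem norm_conj (x : K) : Algebra.norm F (τ x) = σ (Algebra.norm F x) := by
  rw [Algebra.norm_eq_of_equiv_equiv hτ.equivF hτ.equivK (RingHom.ext fun c => (hτ.compat c).symm) x]
  exact (hτ.equivF.apply_symm_apply _).symm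

/-- Fixed and moved parts. -/
theorem exists_parts {lam : F} (hlam : σ lam ≠ lam) (x : K) :
    ∃ a b : K, τ a = a ∧ τ b = b ∧ a + lam • b = x := by
  set L := algebraMap F K lam with hL
  have hne : L - τ L ≠ 0 := by
    rw [hL, hτ.compat, sub_ne_zero]
    exact fun e => hlam ((algebraMap F K).injective e).symm
  refine ⟨x - L * ((x - τ x) / (L - τ L)), (x - τ x) / (L - τ L), ?_, ?_, ?_⟩
  · rw [map_sub, map_mul, map_div₀, map_sub, map_sub, hτ.conjK.invol, hτ.conjK.invol, ← neg_sub x (τ x),
      ← neg_sub L (τ L), neg_div_neg_eq]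
    field_simp
    ring
  · rw [map_div₀, map_sub, map_sub, hτ.conjK.invol, hτ.conjK.invol, ← neg_sub x (τ x), ← neg_sub L (τ L),
      neg_div_neg_eq]
  · rw [Algebra.smul_def]; ring

/-- A linear map vanishing on the fixed elements vanishes. -/
theorem ext_fixed {M : Type*} [AddCommGroup M] [Module F M] {f : K →ₗ[F] M}
    (h : ∀ a, τ a = a → f a = 0) (x : K) : f x = 0 := by
  obtain ⟨lam, hlam⟩ := hτ.conjF.exists_not_fixed
  obtain ⟨a, b, ha, hb, rfl⟩ := hτ.exists_parts hlam x
  rw [map_add, map_smul, h a ha, h b hb, smul_zero, add_zero]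

theorem skew_smul_fixed {c : F} (hc : c + σ c = 0) {a : K} (ha : τ a = a) : c • a + τ (c • a) = 0 := by
  rw [hτ.map_smul', ha, ← add_smul, hc, zero_smul]

/-- A linear map vanishing on the skew elements vanishes. -/
theorem ext_skew {M : Type*} [AddCommGroup M] [Module F M] {f : K →ₗ[F] M}
    (h : ∀ a, a + τ a = 0 → f a = 0) (x : K) : f x = 0 := by
  obtain ⟨c, hc0, hc⟩ := hτ.conjF.exists_trace_zero
  refine hτ.ext_fixed (fun a ha => ?_) x
  have h1 := h _ (hτ.skew_smul_fixed hc ha)
  rw [map_smul] at h1
  exact (smul_eq_zero.1 h1).resolve_left hc0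

theorem fixed_smul {c : F} (hc : σ c = c) {a : K} (ha : τ a = a) : τ (c • a) = c • a := by
  rw [hτ.map_smul', hc, ha]

/-- Every subspace of `K` which contains all products of a given element with fixed elements is everything. -/
theorem eq_top_of_fixed {S : Submodule F K} {l : K} (hl : l ≠ 0) (h : ∀ a, τ a = a → a * l ∈ S) : S = ⊤ := by
  refine eq_top_iff.2 fun x _ => ?_
  have := hτ.ext_fixed (f := S.mkQ ∘ₗ LinearMap.mulRight F l)
    (fun a ha => by simpa [Submodule.Quotient.mk_eq_zero] using h a ha) (x / l)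
  simpa [Submodule.Quotient.mk_eq_zero, hl] using this

theorem eq_top_of_skew {S : Submodule F K} {l : K} (hl : l ≠ 0) (h : ∀ a, a + τ a = 0 → a * l ∈ S) : S = ⊤ := by
  refine eq_top_iff.2 fun x _ => ?_
  have := hτ.ext_skew (f := S.mkQ ∘ₗ LinearMap.mulRight F l)
    (fun a ha => by simpa [Submodule.Quotient.mk_eq_zero] using h a ha) (x / l)
  simpa [Submodule.Quotient.mk_eq_zero, hl] using this

theorem exists_fixed_trace {l : K} (hl : l ≠ 0) : ∃ a, τ a = a ∧ Algebra.trace F K (a * l) ≠ 0 := by
  by_contra hc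
  push Not at hc
  have h1 := fun x => hτ.ext_fixed (f := Algebra.trace F K ∘ₗ LinearMap.mulRight F l)
    (fun a ha => hc a ha) x
  exact Algebra.trace_ne_zero F K (LinearMap.ext fun x => by simpa [hl] using h1 (x / l))

end IsExtConj

/-- The kernel of trace against a subspace has the complementary dimension. -/
theorem finrank_trace_annihilator (H : Submodule F K) :
    finrank F H + finrank F (LinearMap.ker
      ((LinearMap.domRestrict' (R := F) (M₂ := F) H) ∘ₗ (LinearMap.mul F K).compr₂ (Algebra.trace F K))) =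
      finrank F K := by
  set T := (LinearMap.domRestrict' (R := F) (M₂ := F) H) ∘ₗ (LinearMap.mul F K).compr₂ (Algebra.trace F K)
  have hsurj : Function.Surjective T := fun φ => by
    obtain ⟨φ', hφ'⟩ := LinearMap.exists_extend φ
    obtain ⟨ψ, hψ⟩ := FieldExtMax.exists_lift (K := K) (V := K) (Algebra.trace_ne_zero F K) φ'
    refine ⟨ψ 1, LinearMap.ext fun x => ?_⟩
    have h1 := LinearMap.congr_fun hφ' x
    rw [LinearMap.comp_apply, Submodule.subtype_apply, hψ] at h1
    have h2 : ψ (x : K) = (x : K) * ψ 1 := by rw [← smul_eq_mul, ← map_smul, smul_eq_mul, mul_one]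
    rw [← h1, h2, mul_comm]
    simp [T]
  have h := LinearMap.finrank_range_add_finrank_ker T
  rw [LinearMap.range_eq_top.2 hsurj, finrank_top, finrank_linearMap, finrank_self, mul_one] at h
  exact h

end CfsgLib.Classical.FieldExtUnitary
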