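import Cfsg.Agent.Lib.Classical.FieldExtUnitary.Conj
import Cfsg.Agent.Lib.Classical.FieldExtMax.Lines

/-!
# Singular Gram matrices of twisted trace forms on a subspace of an extension field
-/

set_option autoImplicit false
set_option linter.unusedSectionVars false

open Module MvPolynomial

namespace CfsgLib.Classical.FieldExtUnitary

variable {F K : Type*} [Field F] [Field K] [Finite F] [Algebra F K] [FiniteDimensional F K]
  {σ : F →+* F} {τ : K →+* K}

/-- The span of all products `τ x * y` from `H`. -/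
def prodSpan (τ : K →+* K) (H : Submodule F K) : Submodule F K :=
  Submodule.span F (Set.image2 (fun x y => τ x * y) (H : Set K) (H : Set K))

theorem mul_mem_prodSpan {H : Submodule F K} {x y : K} (hx : x ∈ H) (hy : y ∈ H) : τ x * y ∈ prodSpan τ H :=
  Submodule.subset_span ⟨x, hx, y, hy, rfl⟩

variable (hτ : IsExtConj σ τ)
include hτ

theorem lt_finrank_prodSpan (hr : (finrank F K).Prime) {H : Submodule F K} (he : 2 ≤ finrank F H)
    (her : finrank F H < finrank F K) : finrank F H < finrank F (prodSpan τ H) := by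
  by_contra hle
  rw [not_lt] at hle
  have hline : ∀ a ∈ H, a ≠ 0 → H.map (LinearMap.mulLeft F (τ a)) = prodSpan τ H := fun a ha ha0 => by
    refine Submodule.eq_of_le_of_finrank_le ?_ ?_
    · rintro _ ⟨y, hy, rfl⟩; exact mul_mem_prodSpan ha hy
    · rw [← LinearEquiv.finrank_eq (Submodule.equivMapOfInjective _
        (mul_right_injective₀ ((map_ne_zero τ).2 ha0)) H)]
      exact hle
  have hH0 : H ≠ ⊥ := by
    rintro rfl
    rw [finrank_bot] at he
    omega
  obtain ⟨a, ha, ha0⟩ := Submodule.exists_mem_ne_zero_of_ne_bot hH0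
  obtain ⟨b, hb, hbn⟩ : ∃ b ∈ H, b ∉ (F ∙ a : Submodule F K) := by
    refine SetLike.not_le_iff_exists.1 fun h => ?_
    have h1 := Submodule.finrank_mono h
    rw [finrank_span_singleton ha0] at h1
    omega
  have hb0 : b ≠ 0 := fun e => hbn (e ▸ Submodule.zero_mem _)
  set k₀ := τ b / τ a with hk
  have hk₀ : ∀ c : F, algebraMap F K c ≠ k₀ := fun c e => by
    have h2 : τ b = algebraMap F K c * τ a := by rw [e, hk, div_mul_cancel₀ _ ((map_ne_zero τ).2 ha0)]
    -- `τ b` is then a multiple of `τ a`
    refine hbn (Submodule.mem_span_singleton.2 ?_)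
    exact ⟨σ c, τ.injective (by rw [hτ.map_smul', hτ.conjF.invol, h2, Algebra.smul_def])⟩
  have hstab : ∀ x ∈ H, k₀ • x ∈ H := fun x hx => by
    have h1 : τ b * x ∈ H.map (LinearMap.mulLeft F (τ a)) := by
      rw [hline a ha ha0]; exact mul_mem_prodSpan hb hx
    obtain ⟨y, hy, hyx⟩ := h1
    rw [LinearMap.mulLeft_apply] at hyx
    have : k₀ • x = y := by
      rw [hk, smul_eq_mul, div_mul_eq_mul_div, ← hyx, mul_div_cancel_left₀ _ ((map_ne_zero τ).2 ha0)]
    rwa [this]
  have htop : H = ⊤ := eq_top_iff.2 fun x _ => by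
    have := FieldExtMax.smul_mem_of_stable hr hk₀ hstab (x / a) ha
    rwa [smul_eq_mul, div_mul_cancel₀ _ ha0] at this
  rw [htop, finrank_top] at her
  exact lt_irrefl _ her

theorem trace_swap {γ : K} (hγ : τ γ = γ) (x y : K) :
    σ (Algebra.trace F K (γ * τ x * y)) = Algebra.trace F K (γ * τ y * x) := by
  rw [← hτ.trace_conj, map_mul τ, map_mul τ, hγ, hτ.conjK.invol]
  ring_nf

theorem exists_degenerate (hr : (finrank F K).Prime) (H : Submodule F K) (he : 2 ≤ finrank F H)
    (her : finrank F H < finrank F K) :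
    ∃ γ, τ γ = γ ∧ (∃ η ∈ H, η ≠ 0 ∧ ∀ y ∈ H, Algebra.trace F K (γ * τ η * y) = 0) ∧
      ∃ y ∈ H, ∃ y' ∈ H, Algebra.trace F K (γ * τ y * y') ≠ 0 := by
  classical
  set e := finrank F H with he'
  set W := prodSpan τ H
  have hW : e + 1 ≤ finrank F W := lt_finrank_prodSpan hτ hr he her
  -- fixed elements inducing independent functionals on `W`
  set T := (LinearMap.domRestrict' (R := F) (M₂ := F) W) ∘ₗ (LinearMap.mul F K).compr₂ (Algebra.trace F K) with hT
  set t : Set (W →ₗ[F] F) := T '' {a | τ a = a}
  have hspan : LinearMap.range T ≤ Submodule.span F t := by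
    rintro _ ⟨x, rfl⟩
    have h := hτ.ext_fixed (f := (Submodule.span F t).mkQ ∘ₗ T)
      (fun a ha => by
        rw [LinearMap.comp_apply, Submodule.mkQ_apply, Submodule.Quotient.mk_eq_zero]
        exact Submodule.subset_span ⟨a, ha, rfl⟩) x
    rwa [LinearMap.comp_apply, Submodule.mkQ_apply, Submodule.Quotient.mk_eq_zero] at h
  have hrange : e + 1 ≤ finrank F (Submodule.span F t) := by
    have h1 := LinearMap.finrank_range_add_finrank_ker T
    have h2 := finrank_trace_annihilator W
    rw [← hT] at h2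
    have h3 := Submodule.finrank_mono hspan
    omega
  obtain ⟨b, hbt, hbs, hbi⟩ := exists_linearIndependent F t
  haveI : Finite (W →ₗ[F] F) := Module.finite_of_finite F
  haveI : Fintype b := Fintype.ofFinite b
  have hcard : e + 1 ≤ Fintype.card b := by
    have h1 := finrank_span_eq_card hbi
    rw [Subtype.range_coe, hbs] at h1
    exact hrange.trans (le_of_eq h1)
  obtain ⟨emb⟩ := Function.Embedding.nonempty_of_card_le (α := Fin (e + 1)) (β := b) (by simpa using hcard)
  have hpre : ∀ i, ∃ a, τ a = a ∧ T a = (emb i : W →ₗ[F] F) := fun i => by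
    obtain ⟨a, ha, h⟩ := hbt (emb i).2
    exact ⟨a, ha, h⟩
  choose g hgfix hgT using hpre
  have hgi : LinearIndependent F fun i => T (g i) := by
    have := hbi.comp emb emb.injective
    simpa [Function.comp_def, hgT] using this
  -- the determinant of the Gram matrix of the combination
  let bs := Module.finBasis F H
  let G : K → Matrix (Fin e) (Fin e) F := fun γ =>
    Matrix.of fun i j => Algebra.trace F K (γ * τ (bs i : K) * (bs j : K))
  let P : MvPolynomial (Fin (e + 1)) F :=
    (Matrix.of fun i j => ∑ k, C (G (g k) i j) * X k).det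
  have hPdeg : P.totalDegree ≤ e := by
    rw [show P = _ from Matrix.det_apply' _]
    refine totalDegree_finsetSum_le fun π _ => ?_
    refine (totalDegree_mul _ _).trans ?_
    rw [show ((π.sign : ℤ) : MvPolynomial (Fin (e + 1)) F) = C ((π.sign : ℤ) : F) by simp, totalDegree_C, zero_add]
    refine (totalDegree_finsetProd _ _).trans ((Finset.sum_le_card_nsmul _ _ 1 fun i _ => ?_).trans (by simp))
    rw [Matrix.of_apply]
    refine totalDegree_finsetSum_le fun k _ => ?_
    refine (totalDegree_mul _ _).trans ?_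
    rw [totalDegree_C, totalDegree_X, zero_add]
  let F₀ : Subfield F := σ.eqLocusField (RingHom.id F)
  have hF₀ : ∀ {x : F}, x ∈ F₀ ↔ σ x = x := Iff.rfl
  -- a projection onto the fixed field
  obtain ⟨l, hl⟩ := hτ.conjF.exists_trace_eq (a := (1 : F)) (map_one σ)
  let Λ : F →+ F₀ :=
    { toFun := fun x => ⟨l * x + σ (l * x), hF₀.2 (by rw [map_add, hτ.conjF.invol, add_comm])⟩
      map_zero' := Subtype.ext (by simp)
      map_add' := fun x y => Subtype.ext (by simp [mul_add]; abel) }
  have hΛm : ∀ (x : F) (y : F₀), Λ (x * y) = Λ x * y := fun x y => Subtype.ext (by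
    show l * (x * y) + σ (l * (x * y)) = (l * x + σ (l * x)) * y
    rw [map_mul, map_mul, map_mul, hF₀.1 y.2]
    ring)
  have hΛ : ∀ x : F₀, Λ (x : F) = x := fun x => Subtype.ext (by
    show l * x + σ (l * x) = x
    rw [map_mul, hF₀.1 x.2, ← add_mul, hl, one_mul])
  let Q : MvPolynomial (Fin (e + 1)) F₀ := ∑ d ∈ P.support, monomial d (Λ (coeff d P))
  have hQdeg : Q.totalDegree ≤ e := totalDegree_finsetSum_le fun d hd => by
    by_cases h0 : Λ (coeff d P) = 0
    · simp [h0]
    · rw [totalDegree_monomial _ h0]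
      exact (le_totalDegree hd).trans hPdeg
  let comb : (Fin (e + 1) → F₀) → K := fun x => ∑ k, (x k : F) • g k
  have hcomb : ∀ x, τ (comb x) = comb x := fun x => by
    rw [map_sum]
    exact Finset.sum_congr rfl fun k _ => hτ.fixed_smul (hF₀.1 (x k).2) (hgfix k)
  have hPeval : ∀ x : Fin (e + 1) → F₀, eval (fun k => (x k : F)) P = (G (comb x)).det := fun x => by
    rw [RingHom.map_det]
    congr 1
    ext i j
    simp [G, comb, Finset.sum_mul, Algebra.smul_mul_assoc, map_sum, map_smul, mul_comm (G _ _ _), mul_comm _ (Algebra.trace F K _)]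
  have hfixdet : ∀ x, (G (comb x)).det ∈ F₀ := fun x => hF₀.2 (by
    rw [RingHom.map_det, ← Matrix.det_transpose]
    congr 1
    ext i j
    exact trace_swap hτ (hcomb x) _ _)
  have hQeval : ∀ x : Fin (e + 1) → F₀, ((eval x Q : F₀) : F) = (G (comb x)).det := fun x => by
    have h1 : eval x Q = Λ (eval (fun k => (x k : F)) P) := by
      rw [eval_eq (f := P), map_sum, map_sum]
      refine Finset.sum_congr rfl fun d _ => ?_
      rw [eval_monomial, Finsupp.prod,
        show (∏ i ∈ d.support, (x i : F) ^ d i) = ((∏ i ∈ d.support, x i ^ d i : F₀) : F) by push_cast; rfl,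
        hΛm]
    rw [h1, hPeval]
    exact congrArg Subtype.val (hΛ ⟨_, hfixdet x⟩)
  obtain ⟨x, hx0, hx⟩ : ∃ x : Fin (e + 1) → F₀, x ≠ 0 ∧ eval x Q = 0 := by
    haveI : Fintype F₀ := Fintype.ofFinite F₀
    haveI : CharP F₀ (ringChar F₀) := ringChar.charP F₀
    haveI := Fact.mk (CharP.char_is_prime F₀ (ringChar F₀))
    have h1 := char_dvd_card_solutions (K := F₀) (ringChar F₀) (f := Q) (by rw [Fintype.card_fin]; omega)
    have h0 : eval (0 : Fin (e + 1) → F₀) Q = 0 := Subtype.ext (by
      rw [hQeval, show comb 0 = 0 by simp [comb]]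
      have : Nonempty (Fin e) := ⟨⟨0, by omega⟩⟩
      simp [G]
      exact Matrix.det_zero)
    by_contra hc
    push Not at hc
    haveI : Subsingleton {x : Fin (e + 1) → F₀ // eval x Q = 0} := ⟨fun u v => Subtype.ext (by
      have hu : u.1 = 0 := by by_contra h; exact hc _ h u.2
      have hv : v.1 = 0 := by by_contra h; exact hc _ h v.2
      rw [hu, hv])⟩
    have h2 := Fintype.card_le_one_iff_subsingleton.2 this
    have h3 : 0 < Fintype.card {x : Fin (e + 1) → F₀ // eval x Q = 0} := Fintype.card_pos_iff.2 ⟨⟨0, h0⟩⟩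
    have := Nat.le_of_dvd h3 h1
    have := (Fact.out (p := (ringChar F₀).Prime)).two_le
    omega
  refine ⟨comb x, hcomb x, ?_, ?_⟩
  · have hd : (G (comb x)).det = 0 := by rw [← hQeval, hx]; rfl
    obtain ⟨v, hv, hvG⟩ := Matrix.exists_mulVec_eq_zero_iff.2 hd
    set η : H := ∑ j, v j • bs j
    refine ⟨(η : K), η.2, fun h0 => hv ?_, fun y hy => ?_⟩
    · exact funext fun j => Fintype.linearIndependent_iff.1 bs.linearIndependent v (Subtype.ext h0) j
    · have key : ∀ i, Algebra.trace F K (comb x * τ (bs i : K) * (η : K)) = 0 := fun i => by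
        have h := congrFun hvG i
        rw [Pi.zero_apply] at h
        rw [← h]
        simp [η, Matrix.mulVec, dotProduct, G, Finset.mul_sum, map_sum, mul_comm (v _)]
      have hy' : (y : K) = ∑ i, bs.repr ⟨y, hy⟩ i • (bs i : K) := by
        have h := congrArg Subtype.val (bs.sum_repr ⟨y, hy⟩)
        simp only [Submodule.coe_sum, Submodule.coe_smul] at h
        exact h.symm
      apply σ.injective
      rw [trace_swap hτ (hcomb x), map_zero, hy']
      simp [map_sum, hτ.map_smul', Finset.mul_sum, Finset.sum_mul, key]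
  · by_contra hc
    push Not at hc
    refine hx0 (funext fun k => Subtype.ext ?_)
    refine Fintype.linearIndependent_iff.1 hgi (fun k => (x k : F)) ?_ k
    refine LinearMap.ext fun w => ?_
    have h1 : Algebra.trace F K (comb x * (w : K)) = 0 := by
      obtain ⟨w, hw⟩ := w
      show Algebra.trace F K (comb x * w) = 0
      induction hw using Submodule.span_induction with
      | mem u hu => obtain ⟨a, ha, b, hb, rfl⟩ := hu; rw [← mul_assoc]; exact hc a ha b hb
      | zero => simp
      | add u v _ _ h1 h2 => simp [mul_add, h1, h2]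
      | smul c u _ h1 => simp [h1]
    simpa [T, comb, Finset.sum_mul, map_sum] using h1

end CfsgLib.Classical.FieldExtUnitary
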