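import Cfsg.Agent.Lib.Classical.FieldExtUnitary.Start

/-!
# Images of isotropic lines: enlarging the common part
-/

set_option autoImplicit false
set_option linter.unusedSectionVars false

open Module

namespace CfsgLib.Classical.FieldExtUnitary

open CfsgLib.Classical.FieldExtMax (line mem_line smul_mem_line self_mem_line finrank_line smul_mem_of_stable
  exists_functional line_le_iff)

variable {F K V : Type*} [Field F] [Field K] [Finite F] [Finite K] [Algebra F K] [FiniteDimensional F K]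
  [AddCommGroup V] [Module F V] [Module K V] [IsScalarTower F K V] [FiniteDimensional K V] [FiniteDimensional F V]
  {σ : F →+* F} {τ : K →+* K} {h : V →ₛₗ[τ] V →ₗ[K] K} {B : V →ₛₗ[σ] V →ₗ[F] F}
  {M : Subgroup (isomGroup B)}

variable (S : Setting h B M)
include S

/-- Elements of `M` fixing `z` and translating a subspace along the line of `z`, when `z` is orthogonal to it. -/
theorem Setting.exists_translate {z y : V} (hzz : h z z = 0) (hzy : h z y = 0) (hy : y ∉ line F K z) :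
    ∃ ψ : V →ₗ[K] K, ψ z = 0 ∧ ψ y = 1 ∧
      ∀ l : K, ∃ t ∈ M, t.1 z = z ∧ ∀ x, h z x = 0 → t.1 x = x + (ψ x * l) • z := by
  obtain ⟨ψ, hψz, hψy⟩ := exists_functional (K := K) (z := z) (y := y) hy
  refine ⟨ψ, hψz, hψy, fun l => ?_⟩
  obtain ⟨v, hv⟩ := S.herm.exists_form_eq S.sep (l • ψ)
  have hvz : h v z = 0 := by rw [hv, LinearMap.smul_apply, hψz, smul_zero]
  obtain ⟨t, ht, htz, htx⟩ := S.exists_eichler hzz hvz
  exact ⟨t, ht, htz, fun x hx => by rw [htx x hx, hv, LinearMap.smul_apply, smul_eq_mul, mul_comm]⟩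

/-- Moving one more dimension of the image into the line. -/
theorem Setting.exists_mover {g : isomGroup B} {a : V} (haa : h a a = 0)
    (hzz : h (g.1 a) (g.1 a) = 0) {k : K} (hk : g.1 (k • a) ∉ line F K (g.1 a))
    (hsmall : finrank F ↥((line F K a).map (g.1 : V →ₗ[F] V) ⊓ line F K (g.1 a)) + 1 < finrank F K) :
    ∃ t ∈ M, t.1 (g.1 a) = g.1 a ∧
      (∀ x ∈ (line F K a).map (g.1 : V →ₗ[F] V) ⊓ line F K (g.1 a), t.1 x = x) ∧
      ∃ x₁ ∈ (line F K a).map (g.1 : V →ₗ[F] V), x₁ ∉ line F K (g.1 a) ∧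
        t.1 x₁ ∈ (line F K a).map (g.1 : V →ₗ[F] V) ∧ t.1 x₁ - x₁ ∈ line F K (g.1 a) ∧
        ∃ x₂ ∈ (line F K a).map (g.1 : V →ₗ[F] V), t.1 x₂ ∉ (line F K a).map (g.1 : V →ₗ[F] V) := by
  have ha0 : a ≠ 0 := by rintro rfl; exact hk (by simp)
  set z := g.1 a with hz
  set P := (line F K a).map (g.1 : V →ₗ[F] V) with hP
  set L := line F K z with hL
  set y₀ := g.1 (k • a) with hy₀
  have hz0 : z ≠ 0 := fun e => ha0 (g.1.injective (e.trans (map_zero g.1).symm))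
  have hzP : z ∈ P := ⟨a, self_mem_line a, rfl⟩
  have hy₀P : y₀ ∈ P := ⟨k • a, smul_mem_line a k, rfl⟩
  have hPfin : finrank F P = finrank F K := finrank_image_line g ha0
  have hLfin : finrank F L = finrank F K := finrank_line hz0
  obtain ⟨l₀, hl₀⟩ : ∃ l : K, l • z ∉ P := by
    by_contra hall
    push Not at hall
    exact hk ((Submodule.eq_of_le_of_finrank_le (line_le_iff.2 hall) (by rw [hPfin, hLfin])).ge hy₀P)
  have hLz : ∀ x ∈ L, h z x = 0 := fun x hx => by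
    obtain ⟨l, rfl⟩ := mem_line.1 hx
    rw [map_smul, hzz, smul_zero]
  by_cases hA : ∃ y ∈ P, h z y ≠ 0
  · obtain ⟨y, hyP, hy⟩ := hA
    have fix : ∀ t : isomGroup B, ∀ c : K, (∀ x, t.1 x = x + (c * h z x) • z) →
        t.1 z = z ∧ ∀ x ∈ P ⊓ L, t.1 x = x := fun t c htx =>
      ⟨by rw [htx, hzz, mul_zero, zero_smul, add_zero],
        fun x hx => by rw [htx, hLz x hx.2, mul_zero, zero_smul, add_zero]⟩
    by_cases hA1 : ∃ x₁ ∈ P, x₁ ∉ L ∧ h z x₁ = 0
    · obtain ⟨x₁, hx₁, hx₁L, hzx⟩ := hA1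
      obtain ⟨c, hc, hcn⟩ : ∃ c : K, c + τ c = 0 ∧ (c * h z y) • z ∉ P := by
        by_contra hall
        push Not at hall
        have := S.ext.eq_top_of_skew (S := P.comap ((LinearMap.toSpanSingleton K V z).restrictScalars F)) hy
          fun c hc => hall c hc
        exact hl₀ ((this.ge : _ ≤ P.comap _) (Submodule.mem_top (x := l₀)))
      obtain ⟨t, ht, htx⟩ := S.exists_kTv hzz hc
      have e1 : t.1 x₁ = x₁ := by rw [htx, hzx, mul_zero, zero_smul, add_zero]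
      refine ⟨t, ht, (fix t c htx).1, (fix t c htx).2, x₁, hx₁, hx₁L, by rwa [e1],
        by rw [e1, sub_self]; exact L.zero_mem, y, hyP, fun h1 => hcn ?_⟩
      rw [htx] at h1
      simpa using P.sub_mem h1 hyP
    · push Not at hA1
      have hker : ∀ x ∈ P, h z x = 0 → x ∈ L := fun x hx hx0 => by_contra fun hn => hA1 x hx hn hx0
      let f : P →ₗ[F] K := (h z).restrictScalars F ∘ₗ P.subtype
      set H := LinearMap.range f
      have hkerle : (LinearMap.ker f).map P.subtype ≤ P ⊓ L := by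
        rintro _ ⟨x, hx, rfl⟩; exact ⟨x.2, hker _ x.2 hx⟩
      have hkerge : P ⊓ L ≤ (LinearMap.ker f).map P.subtype := fun x hx => ⟨⟨x, hx.1⟩, hLz x hx.2, rfl⟩
      have hrn := LinearMap.finrank_range_add_finrank_ker f
      rw [← Submodule.finrank_map_subtype_eq, le_antisymm hkerle hkerge, hPfin] at hrn
      change finrank F H + _ = _ at hrn
      have hD0 : 0 < finrank F ↥(P ⊓ L) := by
        refine Nat.pos_of_ne_zero fun e => hz0 ?_
        rw [Submodule.finrank_eq_zero] at e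
        exact (Submodule.eq_bot_iff _).1 e z ⟨hzP, self_mem_line z⟩
      obtain ⟨γ, hγ, ⟨η, ⟨⟨x₁, hx₁⟩, hxη⟩, hη0, hη⟩, η₁, ⟨⟨x₂, hx₂⟩, hxη₁⟩, η₂, ⟨⟨x₃, hx₃⟩, hxη₂⟩, hne⟩ :=
        exists_degenerate S.ext S.prime H (by omega) (by omega)
      change h z x₁ = η at hxη
      change h z x₂ = η₁ at hxη₁
      change h z x₃ = η₂ at hxη₂
      obtain ⟨c₀, hc₀0, hc₀⟩ := S.ext.conjF.exists_trace_zero
      obtain ⟨t, ht, htx⟩ := S.exists_kTv hzz (S.ext.skew_smul_fixed hc₀ hγ)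
      have hin : ((c₀ • γ) * η) • z ∈ P := S.mem_image_of_annihilates g haa ha0 hz0 hker hzz fun x hx => by
        rw [map_mul τ, S.ext.map_smul', hγ, smul_mul_assoc, smul_mul_assoc, map_smul,
          (hη _ ⟨⟨x, hx⟩, rfl⟩ : Algebra.trace F K (γ * τ η * h z x) = 0), smul_zero]
      refine ⟨t, ht, (fix t _ htx).1, (fix t _ htx).2, x₁, hx₁, fun hL' => hη0 (by rw [← hxη, hLz x₁ hL']), ?_, ?_,
        x₂, hx₂, fun h1 => hne ?_⟩
      · rw [htx, hxη]; exact P.add_mem hx₁ hin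
      · rw [htx, add_sub_cancel_left]; exact smul_mem_line z _
      · rw [htx, hxη₁] at h1
        have h2 := P.sub_mem h1 hx₂
        rw [add_sub_cancel_left] at h2
        have h3 := S.image_isotropic g haa h2 hx₃
        rw [S.eq, map_smulₛₗ, LinearMap.smul_apply, hxη₂, map_mul τ, S.ext.map_smul', hγ, smul_eq_mul,
          smul_mul_assoc, smul_mul_assoc, map_smul, smul_eq_mul] at h3
        exact (mul_eq_zero.1 h3).resolve_left ((map_ne_zero σ).2 hc₀0)
  · push Not at hA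
    obtain ⟨ψ, hψz, hψ₀, hT⟩ := S.exists_translate hzz (hA y₀ hy₀P) hk
    have hψL : ∀ x ∈ L, ψ x = 0 := fun x hx => by
      obtain ⟨l, rfl⟩ := mem_line.1 hx; simp [hψz]
    obtain ⟨y₃, hy₃P, hy₃⟩ : ∃ y₃ ∈ P, y₃ ∉ (P ⊓ L) ⊔ F ∙ y₀ := by
      refine SetLike.not_le_iff_exists.1 fun hle => ?_
      have h1 := Submodule.finrank_mono hle
      have h2 := Submodule.finrank_add_le_finrank_add_finrank (P ⊓ L) (F ∙ y₀)
      have h3 : finrank F (F ∙ y₀ : Submodule F V) ≤ 1 :=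
        (finrank_span_singleton fun e : y₀ = 0 => hk (by rw [e]; exact Submodule.zero_mem _)).le
      omega
    obtain ⟨l, x₁, x₂, hx₁, hx₁L, hx₁t, hx₂, hx₂t⟩ : ∃ (l : K) (x₁ x₂ : V), x₁ ∈ P ∧ x₁ ∉ L ∧
        (ψ x₁ * l) • z ∈ P ∧ x₂ ∈ P ∧ (ψ x₂ * l) • z ∉ P := by
      by_cases hc : ∃ c : F, algebraMap F K c = ψ y₃
      · obtain ⟨c, hc⟩ := hc
        refine ⟨l₀, y₃ - c • y₀, y₀, P.sub_mem hy₃P (P.smul_mem c hy₀P), fun hmem => hy₃ ?_, ?_, hy₀P, ?_⟩
        · exact Submodule.mem_sup.2 ⟨_, ⟨P.sub_mem hy₃P (P.smul_mem c hy₀P), hmem⟩, c • y₀,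
            Submodule.smul_mem _ _ (Submodule.mem_span_singleton_self y₀), sub_add_cancel _ _⟩
        · rw [map_sub, LinearMap.map_smul_of_tower, hψ₀, ← hc, Algebra.algebraMap_eq_smul_one, sub_self,
            zero_mul, zero_smul]
          exact P.zero_mem
        · rwa [hψ₀, one_mul]
      · push Not at hc
        obtain ⟨d, hdD, hdnot⟩ : ∃ d ∈ P ⊓ L, ψ y₃ • d ∉ P ⊓ L := by
          by_contra hall
          push Not at hall
          exact hl₀ (smul_mem_of_stable S.prime hc hall l₀ (show z ∈ P ⊓ L from ⟨hzP, self_mem_line z⟩)).1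
        obtain ⟨l, rfl⟩ := mem_line.1 hdD.2
        refine ⟨l, y₀, y₃, hy₀P, hk, by rw [hψ₀, one_mul]; exact hdD.1, hy₃P, fun hmem => hdnot ?_⟩
        rw [smul_smul]
        exact ⟨hmem, smul_mem_line z _⟩
    obtain ⟨t, ht, htz, htx⟩ := hT l
    refine ⟨t, ht, htz, fun x hx => ?_, x₁, hx₁, hx₁L, ?_, ?_, x₂, hx₂, fun h1 => hx₂t ?_⟩
    · rw [htx x (hLz x hx.2), hψL x hx.2, zero_mul, zero_smul, add_zero]
    · rw [htx x₁ (hA x₁ hx₁)]; exact P.add_mem hx₁ hx₁t
    · rw [htx x₁ (hA x₁ hx₁), add_sub_cancel_left]; exact smul_mem_line z _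
    · rw [htx x₂ (hA x₂ hx₂)] at h1
      simpa using P.sub_mem h1 hx₂

/-- An image of an isotropic line meeting a line in a hyperplane. -/
theorem Setting.exists_config {g : isomGroup B} (hg : g ∈ M) {a : V} (haa : h a a = 0)
    (hzz : h (g.1 a) (g.1 a) = 0) {k : K} (hk : g.1 (k • a) ∉ line F K (g.1 a)) :
    ∃ g ∈ M, ∃ a : V, h a a = 0 ∧ h (g.1 a) (g.1 a) = 0 ∧ (∃ k : K, g.1 (k • a) ∉ line F K (g.1 a)) ∧
      finrank F K ≤ finrank F ↥((line F K a).map (g.1 : V →ₗ[F] V) ⊓ line F K (g.1 a)) + 1 := by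
  suffices H : ∀ n : ℕ, ∀ g : isomGroup B, g ∈ M → ∀ a : V, h a a = 0 → h (g.1 a) (g.1 a) = 0 →
      (∃ k : K, g.1 (k • a) ∉ line F K (g.1 a)) →
      finrank F K ≤ finrank F ↥((line F K a).map (g.1 : V →ₗ[F] V) ⊓ line F K (g.1 a)) + (n + 1) →
      ∃ g ∈ M, ∃ a : V, h a a = 0 ∧ h (g.1 a) (g.1 a) = 0 ∧ (∃ k : K, g.1 (k • a) ∉ line F K (g.1 a)) ∧
        finrank F K ≤ finrank F ↥((line F K a).map (g.1 : V →ₗ[F] V) ⊓ line F K (g.1 a)) + 1 from
    H (finrank F K) g hg a haa hzz ⟨k, hk⟩ (by omega)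
  clear! g a k
  intro n
  induction n with
  | zero => intro g hg a haa hzz hne hd; exact ⟨g, hg, a, haa, hzz, hne, hd⟩
  | succ n ih =>
    intro g hg a haa hzz ⟨k, hk⟩ hd
    by_cases hbig : finrank F K ≤ finrank F ↥((line F K a).map (g.1 : V →ₗ[F] V) ⊓ line F K (g.1 a)) + 1
    · exact ⟨g, hg, a, haa, hzz, ⟨k, hk⟩, hbig⟩
    obtain ⟨t, ht, htz, htD, x₁, hx₁, hx₁L, hx₁t, hx₁d, x₂, hx₂, hx₂t⟩ :=
      S.exists_mover haa hzz hk (by omega)
    set P := (line F K a).map (g.1 : V →ₗ[F] V) with hP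
    set D := P ⊓ line F K (g.1 a) with hD
    have e : (g⁻¹ * t * g).1 a = a := by
      change g.1.symm (t.1 (g.1 a)) = a
      rw [htz, g.1.symm_apply_apply]
    have key : ∀ x ∈ P, t.1 x ∈ P → g.1.symm (t.1 x) ∈
        (line F K a).map ((g⁻¹ * t * g).1 : V →ₗ[F] V) ⊓ line F K ((g⁻¹ * t * g).1 a) := by
      rintro _ ⟨w, hw, rfl⟩ ⟨w', hw', hw''⟩
      refine ⟨⟨w, hw, rfl⟩, ?_⟩
      rw [e]
      change g.1 w' = t.1 (g.1 w) at hw''
      show g.1.symm (t.1 (g.1 w)) ∈ _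
      rw [← hw'', g.1.symm_apply_apply]
      exact hw'
    refine ih (g⁻¹ * t * g) (mul_mem (mul_mem (inv_mem hg) ht) hg) a haa (by rw [e]; exact haa) ?_ ?_
    · obtain ⟨w, hw, hwx⟩ := id hx₂
      obtain ⟨j, rfl⟩ := mem_line.1 hw
      refine ⟨j, fun hmem => hx₂t ?_⟩
      rw [e] at hmem
      refine ⟨_, hmem, ?_⟩
      rw [← hwx]
      exact g.1.apply_symm_apply _
    · have hle : (D ⊔ F ∙ t.1 x₁).map (g.1.symm : V →ₗ[F] V) ≤
          (line F K a).map ((g⁻¹ * t * g).1 : V →ₗ[F] V) ⊓ line F K ((g⁻¹ * t * g).1 a) := by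
        rw [Submodule.map_sup, sup_le_iff]
        refine ⟨?_, ?_⟩
        · rintro _ ⟨x, hx, rfl⟩
          have := key x hx.1 (by rw [htD x hx]; exact hx.1)
          rwa [htD x hx] at this
        · rw [Submodule.map_span, Set.image_singleton, Submodule.span_singleton_le_iff_mem]
          exact key x₁ hx₁ hx₁t
      have h1 := Submodule.finrank_mono hle
      rw [LinearEquiv.finrank_map_eq] at h1
      have h2 : finrank F D < finrank F ↥(D ⊔ F ∙ t.1 x₁) := Submodule.finrank_lt_finrank_of_lt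
        (lt_of_le_of_ne le_sup_left fun e' => hx₁L (by
          have hm : t.1 x₁ ∈ D := by
            rw [e']; exact Submodule.mem_sup_right (Submodule.mem_span_singleton_self _)
          simpa using (line F K (g.1 a)).sub_mem hm.2 hx₁d))
      omega

end CfsgLib.Classical.FieldExtUnitary
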