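import Cfsg.Agent.Lib.Classical.FieldExtUnitary.Root
import Cfsg.Agent.Lib.Classical.FieldExtUnitary.Axes
import Cfsg.Agent.Lib.Classical.FieldExtUnitary.BigAxes

/-!
# Overgroups of unitary groups over extension fields
-/

set_option autoImplicit false
set_option linter.unusedSectionVars false

open Module

namespace CfsgLib.Classical.FieldExtUnitary

open CfsgLib.Classical.FieldExtMax (line mem_line self_mem_line exists_of_hyperplane smul_mem_line)

variable {F K V : Type*} [Field F] [Field K] [Fintype F] [Finite K] [Algebra F K] [FiniteDimensional F K]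
  [AddCommGroup V] [Module F V] [Module K V] [IsScalarTower F K V] [FiniteDimensional K V] [FiniteDimensional F V]
  {σ : F →+* F} {τ : K →+* K} {h : V →ₛₗ[τ] V →ₗ[K] K} {B : V →ₛₗ[σ] V →ₗ[F] F}
  {M : Subgroup (isomGroup B)}

variable (S : Setting h B M)
include S

/-- An element outside the semilinear group forces the special group. -/
theorem Setting.top {g : isomGroup B} (hg : g ∈ M)
    (hns : ¬ ∀ k : K, ∃ k' : K, ∀ x, g.1 (k • x) = k' • g.1 x) : sIsom B ≤ M := by
  obtain ⟨a, haa, k, hk⟩ : ∃ a : V, h a a = 0 ∧ ∃ k : K, g.1 (k • a) ∉ line F K (g.1 a) := by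
    by_contra hno
    push Not at hno
    exact hns fun k => S.semilinear_of_isotropic g (fun a ha k => hno a ha k) k
  obtain ⟨g₁, hg₁, a₁, ha₁, hz₁, k₁, hk₁⟩ := S.exists_start hg haa hk
  obtain ⟨g₂, hg₂, a₂, ha₂, hz₂, ⟨k₂, hk₂⟩, hbig⟩ := S.exists_config hg₁ ha₁ hz₁ hk₁
  obtain ⟨u, hu0, huu, hu⟩ := S.exists_axis hg₂ ha₂ hz₂ hk₂ hbig
  by_cases h2 : finrank K V = 2
  · exact S.sIsom_le_of_axis ⟨1, h2⟩ hu0 huu hu
  · exact S.sIsom_le_of_axis_big (by have := S.two; omega) hu0 huu hu

/-- A transvection which is not semilinear. -/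
theorem Setting.exists_not_semilinear :
    ∃ g : isomGroup B, idet B g = 1 ∧ ¬ ∀ k : K, ∃ k' : K, ∀ x, g.1 (k • x) = k' • g.1 x := by
  obtain ⟨a, ha, -, haa⟩ : ∃ a : V, a ≠ 0 ∧ True ∧ h a a = 0 := by
    obtain ⟨a, -, ha0, haa⟩ := S.herm.exists_isotropic (W := (⊤ : Submodule K V))
      (nondegOn_iff.2 fun x _ hx => S.sep x fun w => hx w trivial) (by rw [finrank_top]; exact S.two)
    exact ⟨a, ha0, trivial, haa⟩
  obtain ⟨c, hc0, hc⟩ := S.ext.conjF.exists_trace_zero
  obtain ⟨g, hg⟩ := S.hermB.exists_uTv S.sepB (v := a) (c := c) (S.line_isotropic haa (self_mem_line a) (self_mem_line a)) hc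
  refine ⟨g, S.hermB.idet_uTv hg, fun hs => ?_⟩
  obtain ⟨κ, -, hκ, -⟩ := S.circ
  have hfix : ∀ l : K, g.1 (l • a) = l • a := fun l => by
    rw [hg.2.2, S.line_isotropic haa (self_mem_line a) (smul_mem_line a l), mul_zero, zero_smul, add_zero]
  obtain ⟨k', hk'⟩ := hs κ
  have e : k' = κ := by
    have h1 := hk' a
    rw [hfix, show g.1 a = a by simpa using hfix 1] at h1
    exact (smul_left_injective K ha h1).symm
  subst e
  obtain ⟨x, hx⟩ : ∃ x, B a x ≠ 0 := by
    by_contra hno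
    push Not at hno
    exact ha (S.sepB a fun y => S.hermB.isRefl _ _ (hno y))
  have h1 := hk' x
  rw [hg.2.2, hg.2.2, smul_add, add_right_inj, ← algebraMap_smul K (c * B a (k' • x)) a,
    ← algebraMap_smul K (c * B a x) a, smul_smul] at h1
  have h2 := smul_left_injective K ha h1
  refine hκ (B a (k' • x) / B a x) ?_
  rw [map_div₀, div_eq_iff ((map_ne_zero (algebraMap F K)).2 hx)]
  rw [map_mul, map_mul, mul_left_comm] at h2
  exact mul_left_cancel₀ ((map_ne_zero (algebraMap F K)).2 hc0) h2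

end CfsgLib.Classical.FieldExtUnitary
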