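import Cfsg.Agent.Lib.Classical.FieldExtUnitary.Main
import Cfsg.Agent.Lib.Classical.FieldExtMax.Matrix

/-!
# Normalisers of extension fields are maximal in special unitary groups
-/

set_option autoImplicit false
set_option linter.unusedSectionVars false
set_option backward.isDefEq.respectTransparency false

open Module Matrix

namespace CfsgLib.Classical.FieldExtUnitary

/-- The circle of the extension leaves the ground field, with norm one outside small cases. -/
theorem exists_circ {F K : Type*} [Field F] [Fintype F] [Field K] [Finite K] [Algebra F K] [FiniteDimensional F K]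
    {σ : F →+* F} {τ : K →+* K} (hτ : IsExtConj σ τ) {q : ℕ} (hF : Fintype.card F = q ^ 2)
    (hσ : ∀ x, σ x = x ^ q) (hr3 : 3 ≤ finrank F K) :
    (∃ κ : K, κ * τ κ = 1 ∧ ∀ c : F, algebraMap F K c ≠ κ) ∧
      ((3 ≤ q ∨ 5 ≤ finrank F K) →
        ∃ κ : K, κ * τ κ = 1 ∧ (∀ c : F, algebraMap F K c ≠ κ) ∧ Algebra.norm F κ = 1) := by
  classical
  haveI : Fintype K := Fintype.ofFinite K
  set r := finrank F K with hr
  have hq := two_le_of_card_sq hF
  obtain ⟨lam, hlam⟩ := hτ.conjF.exists_not_fixed
  -- the size of the fixed field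
  let E : {a : K // τ a = a} × {a : K // τ a = a} → K := fun x => x.1 + lam • x.2.1
  have hE : Function.Bijective E := by
    refine ⟨fun x y hxy => ?_, fun x => ?_⟩
    · have h1 := congrArg τ hxy
      simp only [E, map_add, hτ.map_smul', x.1.2, x.2.2, y.1.2, y.2.2] at h1
      have h2 : (lam - σ lam) • (x.2.1 - y.2.1) = 0 := by
        simp only [E] at hxy
        linear_combination (norm := module) hxy - h1
      have h3 := sub_eq_zero.1 ((smul_eq_zero.1 h2).resolve_left (sub_ne_zero.2 (Ne.symm hlam)))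
      simp only [E, h3, add_left_inj] at hxy
      exact Prod.ext (Subtype.ext hxy) (Subtype.ext h3)
    · obtain ⟨a, b, ha, hb, e⟩ := hτ.exists_parts hlam x
      exact ⟨(⟨a, ha⟩, ⟨b, hb⟩), e⟩
  have hfix : Nat.card {a : K // τ a = a} = q ^ r := by
    have h1 := Nat.card_congr (Equiv.ofBijective E hE)
    rw [Nat.card_prod, Module.natCard_eq_pow_finrank (K := F) (V := K), Nat.card_eq_fintype_card (α := F), hF,
      ← hr] at h1
    refine Nat.pow_left_injective (by norm_num : (2 : ℕ) ≠ 0) ?_
    simp only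
    rw [← pow_mul, mul_comm r 2, pow_mul, sq, h1]
  have hfu : Nat.card (fixedUnits τ) + 1 = q ^ r := by
    let Kf : Subfield K := τ.eqLocusField (RingHom.id K)
    have e1 : Nat.card {a : K // τ a = a} = Nat.card Kf := Nat.card_congr (Equiv.subtypeEquivRight fun x => Iff.rfl)
    have e2 : Nat.card Kfˣ = Nat.card (fixedUnits τ) := by
      refine Nat.card_congr
        { toFun := fun u => ⟨Units.map (Kf.subtype : Kf →* K) u, (u : Kf).2⟩
          invFun := fun u => ⟨⟨(u.1 : K), u.2⟩, ⟨((u.1⁻¹ : Kˣ) : K), (inv_mem u.2 : u.1⁻¹ ∈ fixedUnits τ)⟩,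
            Subtype.ext (by simp), Subtype.ext (by simp)⟩
          left_inv := fun u => Units.ext (Subtype.ext rfl)
          right_inv := fun u => Subtype.ext (Units.ext rfl) }
    rw [Nat.card_units, ← e1, hfix] at e2
    have : 0 < q ^ r := Nat.pow_pos (by omega)
    omega
  have hker : Nat.card (normHom τ).ker = q ^ r + 1 := by
    have h1 := hτ.conjK.card_norm_ker_mul
    rw [Nat.card_units, Module.natCard_eq_pow_finrank (K := F) (V := K), Nat.card_eq_fintype_card (α := F), hF,
      ← hr, ← pow_mul, mul_comm 2 r, pow_mul] at h1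
    have h2 : 2 ≤ q ^ r := le_trans hq (Nat.le_self_pow (by omega) q)
    obtain ⟨u, hu⟩ : ∃ u, q ^ r = u + 1 := ⟨q ^ r - 1, by omega⟩
    have h3 : Nat.card (fixedUnits τ) = u := by omega
    rw [h3, hu] at h1
    rw [hu]
    have h4 : (u + 1) ^ 2 - 1 = (u + 2) * u := by
      rw [show (u + 1) ^ 2 = (u + 2) * u + 1 by ring, Nat.add_sub_cancel]
    rw [h4] at h1
    have := Nat.eq_of_mul_eq_mul_right (by omega) h1
    omega
  have hcirc : ∀ c : F, algebraMap F K c * τ (algebraMap F K c) = 1 → c ^ (q + 1) = 1 := fun c hc => by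
    rw [hτ.compat, ← map_mul, ← map_one (algebraMap F K)] at hc
    rw [pow_succ', ← hσ]
    exact (algebraMap F K).injective hc
  constructor
  · by_contra hno
    push Not at hno
    have h1 := card_roots_pow_le (F := K) (q + 1) (by omega) (normHom τ).ker fun u hu => Units.ext (by
      have hu' : (u : K) * τ u = 1 := congrArg Units.val (MonoidHom.mem_ker.1 hu)
      obtain ⟨c, hc⟩ := hno u hu'
      rw [Units.val_pow_eq_pow_val, ← hc, ← map_pow, hcirc c (by rw [hc]; exact hu'), map_one, Units.val_one])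
    have : q ^ 2 ≤ q ^ r := Nat.pow_le_pow_right (by omega) (by omega)
    nlinarith
  · intro hbig
    by_contra hno
    push Not at hno
    have h1 := card_roots_pow_le (F := K) ((q + 1) ^ 2) (by positivity) (normHom τ).ker fun u hu => Units.ext (by
      have hu' : (u : K) * τ u = 1 := congrArg Units.val (MonoidHom.mem_ker.1 hu)
      have hk : (u : K) ^ (q + 1) * τ ((u : K) ^ (q + 1)) = 1 := by rw [map_pow, ← mul_pow, hu', one_pow]
      have hn : Algebra.norm F ((u : K) ^ (q + 1)) = 1 := by
        rw [map_pow, pow_succ', ← hσ, ← hτ.norm_conj, ← map_mul, hu', map_one]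
      by_cases hc : ∃ c : F, algebraMap F K c = (u : K) ^ (q + 1)
      · obtain ⟨c, hc⟩ := hc
        rw [Units.val_pow_eq_pow_val, sq, pow_mul, ← hc, ← map_pow, hcirc c (by rw [hc]; exact hk), map_one,
          Units.val_one]
      · push Not at hc
        exact absurd hn (hno _ hk hc))
    rcases hbig with h3 | h5
    · have : q ^ 3 ≤ q ^ r := Nat.pow_le_pow_right (by omega) hr3
      nlinarith [Nat.mul_le_mul_right (q * q) h3]
    · have : q ^ 5 ≤ q ^ r := Nat.pow_le_pow_right (by omega) h5
      nlinarith [Nat.mul_le_mul_right (q * q * q * q) hq, Nat.mul_le_mul_right (q * q * q) hq,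
        Nat.mul_le_mul_right (q * q) hq, Nat.mul_le_mul_right q hq]

variable {F : Type*} [Field F] [Fintype F] {n r q : ℕ} {K : Subalgebra F (Matrix (Fin n) (Fin n) F)}

/-- The normaliser of an adjoint-closed extension field of odd prime degree is maximal, in any relative degree. -/
theorem isMaximalIn_fieldExt_any (hF : Fintype.card F = q ^ 2) (hr : r.Prime) (hro : Odd r) {m : ℕ} (hn : n = r * m)
    (hm2 : 2 ≤ m) (hsmall : m = 2 → 3 ≤ q ∨ 5 ≤ r) (hK : Cfsg.Geo.IsFieldSubalgebra r K)
    (hac : Cfsg.Geo.IsAdjointClosedFor (Cfsg.hermForm n F q) K) :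
    Cfsg.Geo.IsMaximalIn (Cfsg.GU n F q ⊓ Cfsg.Geo.specialLinear (Fin n) F)
      (Cfsg.Geo.subalgebraNormalizer K ⊓ (Cfsg.GU n F q ⊓ Cfsg.Geo.specialLinear (Fin n) F)) := by
  classical
  obtain ⟨σ, hσ, hc⟩ := exists_frob hF
  have hr3 : 3 ≤ r := by
    rcases hro with ⟨t, rfl⟩
    have := hr.two_le
    omega
  haveI : Nonempty (Fin n) := ⟨⟨0, by rw [hn]; exact Nat.mul_pos hr.pos (by omega)⟩⟩
  have hfield : IsField K := ⟨⟨0, 1, zero_ne_one⟩, fun a b => Subtype.ext (hK.comm _ a.2 _ b.2),
    fun {a} ha => by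
      obtain ⟨y, hy, h⟩ := hK.inv a.1 a.2 fun h => ha (Subtype.ext h)
      exact ⟨⟨y, hy⟩, Subtype.ext h⟩⟩
  letI : Field K := hfield.toField
  letI : Module K (Fin n → F) := Module.compHom (Fin n → F)
    ((Matrix.toLinAlgEquiv' : Matrix (Fin n) (Fin n) F ≃ₐ[F] _).toAlgHom.comp K.val).toRingHom
  have hsmul : ∀ (k : K) (x : Fin n → F), k • x = k.1 *ᵥ x := fun k x =>
    Matrix.toLinAlgEquiv'_apply k.1 x
  haveI : IsScalarTower F K (Fin n → F) := ⟨fun c k x => by
    rw [hsmul, hsmul]
    exact Matrix.smul_mulVec c k.1 x⟩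
  haveI : FiniteDimensional F K := Module.finite_of_finrank_pos (by
    have : Module.finrank F K = r := hK.finrank_eq
    rw [this]; exact hr.pos)
  haveI : FiniteDimensional K (Fin n → F) := Module.Finite.of_restrictScalars_finite F K (Fin n → F)
  haveI : Finite K := Finite.of_injective _ Subtype.val_injective
  have hfin : finrank F K = r := hK.finrank_eq
  have hmd : finrank K (Fin n → F) = m := by
    have h := finrank_mul_finrank F K (Fin n → F)
    rw [hfin, finrank_fin_fun] at h
    exact Nat.eq_of_mul_eq_mul_left hr.pos (h.trans hn)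
  set B := stdHerm σ n with hBdef
  have hB := stdHerm_isHermitian hc n
  have hN := stdHerm_sepRight (σ := σ) n
  -- adjoints
  have hadj : ∀ k : K, ∃ k' : K, ∀ x y, B (k' • x) y = B x (k • y) := fun k => by
    obtain ⟨k', hk', h⟩ := hac k.1 k.2
    refine ⟨⟨k', hk'⟩, fun x y => ?_⟩
    rw [hsmul, hsmul, hBdef, ← hermForm_eq_stdHerm hσ, ← hermForm_eq_stdHerm hσ]
    exact (h y x).symm
  choose t ht using hadj
  have huniq : ∀ a b : K, (∀ x y, B (a • x) y = B (b • x) y) → a = b := fun a b h => by
    obtain ⟨x, hx⟩ := exists_ne (0 : Fin n → F)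
    refine smul_left_injective K hx (sub_eq_zero.1 (hN _ fun y => hB.isRefl _ _ ?_))
    rw [map_sub, LinearMap.sub_apply, h, sub_self]
  have ht2 : ∀ k x y, B (k • x) y = B x (t k • y) := fun k x y => by
    rw [← hB.symm, ← ht, hB.symm]
  let τ : K →+* K :=
    { toFun := t
      map_one' := huniq _ _ fun x y => by rw [ht, one_smul, one_smul]
      map_mul' := fun a b => huniq _ _ fun x y => by
        rw [ht, mul_smul, mul_comm (t a), ← ht, ← ht, smul_smul, mul_comm (t b)]
      map_zero' := huniq _ _ fun x y => by rw [ht, zero_smul, zero_smul, map_zero, LinearMap.map_zero₂]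
      map_add' := fun a b => huniq _ _ fun x y => by
        rw [ht, add_smul, add_smul, map_add, map_add, LinearMap.add_apply, ht, ht] }
  have hτc : ∀ c, τ (algebraMap F K c) = algebraMap F K (σ c) := fun c => huniq _ _ fun x y => by
    show B (t _ • x) y = _
    rw [ht, algebraMap_smul, algebraMap_smul, map_smul, map_smulₛₗ, LinearMap.smul_apply, hc.invol]
  have hτi : ∀ k, τ (τ k) = k := fun k => huniq _ _ fun x y => by
    show B (t (t k) • x) y = _
    rw [ht, ht2]
  have hext : IsExtConj σ τ := ⟨hc, ⟨hτi, fun e => hc.ne_id (RingHom.ext fun c => (algebraMap F K).injective (by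
    rw [← hτc, e]; rfl))⟩, hτc⟩
  -- the form over the extension
  have hlift : ∀ x, ∃ ψ : (Fin n → F) →ₗ[K] K, ∀ y, B x y = Algebra.trace F K (ψ y) :=
    fun x => FieldExtMax.exists_lift (Algebra.trace_ne_zero F K) (B x)
  choose ψ hψ using hlift
  have hψk : ∀ (l : K) x y, Algebra.trace F K (l * ψ x y) = B x (l • y) := fun l x y => by
    rw [hψ, map_smul, smul_eq_mul]
  have huK : ∀ a b : K, (∀ l : K, Algebra.trace F K (l * a) = Algebra.trace F K (l * b)) → a = b := fun a b hab => by
    by_contra hne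
    obtain ⟨l, -, hl⟩ := hext.exists_fixed_trace (sub_ne_zero.2 hne)
    exact hl (by rw [mul_sub, map_sub, hab, sub_self])
  let h : (Fin n → F) →ₛₗ[τ] (Fin n → F) →ₗ[K] K :=
    { toFun := ψ
      map_add' := fun x x' => LinearMap.ext fun y => huK _ _ fun l => by
        rw [LinearMap.add_apply, mul_add, map_add, hψk, hψk, hψk, map_add, LinearMap.add_apply]
      map_smul' := fun k x => LinearMap.ext fun y => huK _ _ fun l => by
        rw [LinearMap.smul_apply, smul_eq_mul, ← mul_assoc, hψk, hψk, ht2, smul_smul, mul_comm l]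
        rfl }
  have hherm : IsHermitian h := ⟨hext.conjK, fun x y => huK _ _ fun l => by
    change Algebra.trace F K (l * τ (ψ x y)) = Algebra.trace F K (l * ψ y x)
    rw [hψk, show l * τ (ψ x y) = τ (τ l * ψ x y) by rw [map_mul, hτi], hext.trace_conj, hψk, hB.symm]
    show B (t l • y) x = _
    rw [ht]⟩
  have hsep : h.SeparatingRight := fun y hy => hN y fun x => by
    rw [hψ]; rw [show ψ x y = 0 from hy x, map_zero]
  obtain ⟨hc1, hc2⟩ := exists_circ hext hF hσ (hfin ▸ hr3)
  have hcirc : ∃ κ : K, κ * τ κ = 1 ∧ (∀ c : F, algebraMap F K c ≠ κ) ∧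
      (finrank K (Fin n → F) = 2 → Algebra.norm F κ = 1) := by
    by_cases h2 : m = 2
    · obtain ⟨κ, h1, h3, h4⟩ := hc2 (by rw [hfin]; exact hsmall h2)
      exact ⟨κ, h1, h3, fun _ => h4⟩
    · obtain ⟨κ, h1, h3⟩ := hc1
      exact ⟨κ, h1, h3, fun h5 => absurd (hmd ▸ h5) h2⟩
  let P : isomGroup B → Prop := fun g => ∀ k : K, ∃ k' : K, ∀ x, g.1 (k • x) = k' • g.1 x
  have hset : ∀ M : Subgroup (isomGroup B), (∀ g, idet B g = 1 → P g → g ∈ M) → Setting h B M := fun M hM =>
    { ext := hext
      herm := hherm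
      sep := hsep
      hermB := hB
      eq := hψ
      prime := by rw [hfin]; exact hr
      three := by rw [hfin]; exact hr3
      two := by rw [hmd]; exact hm2
      circ := hcirc
      mem := fun e he g hge => by
        refine hM g ?_ fun k => ⟨k, fun x => by rw [hge, hge, map_smul]⟩
        change LinearMap.det (g.1 : (Fin n → F) →ₗ[F] (Fin n → F)) = 1
        rw [show (g.1 : (Fin n → F) →ₗ[F] (Fin n → F)) = (e.1 : (Fin n → F) →ₗ[K] (Fin n → F)).restrictScalars F
          from LinearMap.ext hge, LinearMap.det_restrictScalars]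
        exact he }
  refine gu_isMaximalIn hσ _ P (fun g => ?_) ?_ ?_
  · rw [FieldExtMax.mem_normalizer_iff]
    exact forall_congr' fun k => exists_congr fun k' => forall_congr' fun x => by
      rw [linToGL_mulVec, linToGL_mulVec, ← hsmul, ← hsmul]
  · exact (hset ⊤ fun g _ _ => Subgroup.mem_top g).exists_not_semilinear
  · exact fun M hM g hg hgP => (hset M hM).top hg hgP

/-- The normaliser of an adjoint-closed extension field of odd prime degree is maximal, in even relative degree. -/
theorem isMaximalIn_fieldExt (hF : Fintype.card F = q ^ 2) (hr : r.Prime) (hro : Odd r) {m : ℕ} (hn : n = r * m)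
    (_hm : Even m) (hm2 : 2 ≤ m) (hsmall : m = 2 → 3 ≤ q ∨ 5 ≤ r) (hK : Cfsg.Geo.IsFieldSubalgebra r K)
    (hac : Cfsg.Geo.IsAdjointClosedFor (Cfsg.hermForm n F q) K) :
    Cfsg.Geo.IsMaximalIn (Cfsg.GU n F q ⊓ Cfsg.Geo.specialLinear (Fin n) F)
      (Cfsg.Geo.subalgebraNormalizer K ⊓ (Cfsg.GU n F q ⊓ Cfsg.Geo.specialLinear (Fin n) F)) :=
  isMaximalIn_fieldExt_any hF hr hro hn hm2 hsmall hK hac

end CfsgLib.Classical.FieldExtUnitary
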