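import Cfsg.Agent.Lib.Classical.FieldExtUnitary.Grow

/-!
# From a configuration to an axis
-/

set_option autoImplicit false
set_option linter.unusedSectionVars false

open Module

namespace CfsgLib.Classical.FieldExtUnitary

open CfsgLib.Classical.FieldExtMax (line mem_line smul_mem_line self_mem_line finrank_line exists_lift
  exists_of_hyperplane)

variable {F K V : Type*} [Field F] [Field K] [Finite F] [Finite K] [Algebra F K] [FiniteDimensional F K]
  [AddCommGroup V] [Module F V] [Module K V] [IsScalarTower F K V] [FiniteDimensional K V] [FiniteDimensional F V]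
  {σ : F →+* F} {τ : K →+* K} {h : V →ₛₗ[τ] V →ₗ[K] K} {B : V →ₛₗ[σ] V →ₗ[F] F}
  {M : Subgroup (isomGroup B)}

/-- The Hermitian product of two vectors as a map. -/
def usym (B : V →ₛₗ[σ] V →ₗ[F] F) (α : F) (u v : V) : V →ₗ[F] V :=
  α • ((B u).smulRight v + (B v).smulRight u)

theorem usym_apply (α : F) (u v x : V) : usym B α u v x = α • (B u x • v + B v x • u) := rfl

theorem usym_conj (α : F) (u v x : V) (t : isomGroup B) :
    usym B α (t.1 u) (t.1 v) x = t.1 (usym B α u v (t.1.symm x)) := by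
  obtain ⟨y, rfl⟩ := t.1.surjective x
  rw [t.1.symm_apply_apply, usym_apply, usym_apply, isomGroup_apply, isomGroup_apply, map_smul, map_add, map_smul,
    map_smul]

variable (S : Setting h B M)
include S

/-- Products of two real multiples of an isotropic vector give an axis. -/
theorem Setting.axis_of_real {α : F} (hα0 : α ≠ 0) (hα : α + σ α = 0) {z₁ : V} (hz0 : z₁ ≠ 0) (hz : h z₁ z₁ = 0)
    (hsym : ∀ x y : K, τ x = x → τ y = y → HasU M (usym B α (x • z₁) (y • z₁))) :
    ∃ u : V, u ≠ 0 ∧ h u u = 0 ∧ IsTAxis M u := by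
  classical
  by_cases h2 : (2 : F) = 0
  swap
  · refine ⟨z₁, hz0, hz, fun g c hg => ?_⟩
    set s := c / (2 * α) with hs
    have hsfix : σ s = s := by
      rw [hs, map_div₀, map_mul, map_ofNat, eq_neg_of_add_eq_zero_right hg.2.1, eq_neg_of_add_eq_zero_right hα,
        mul_neg, neg_div_neg_eq]
    obtain ⟨g', hg', hgx⟩ := hsym 1 (algebraMap F K s) (map_one τ) (by rw [S.ext.compat, hsfix])
    have e : g = g' := Subtype.ext (LinearEquiv.ext fun x => by
      rw [hg.2.2, hgx, usym_apply, one_smul, algebraMap_smul, map_smulₛₗ, LinearMap.smul_apply, hsfix, smul_eq_mul]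
      rw [smul_smul (B z₁ x), ← add_smul, smul_smul]
      congr 2
      rw [hs]; field_simp; ring)
    exact e ▸ hg'
  haveI : CharP F 2 := CharTwo.of_one_ne_zero_of_two_eq_zero one_ne_zero h2
  haveI : CharP K 2 := charP_of_injective_algebraMap (algebraMap F K).injective 2
  haveI : Fintype F := Fintype.ofFinite F
  have hαfix : σ α = α := by rw [eq_neg_of_add_eq_zero_right hα, CharTwo.neg_eq]
  -- a basis of fixed elements and its dual
  obtain ⟨bset, hbsub, hbspan, hbli⟩ := exists_linearIndependent F {a : K | τ a = a}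
  have htop : ⊤ ≤ Submodule.span F bset := fun x _ => by
    rw [hbspan]
    have hx := S.ext.ext_fixed (f := (Submodule.span F {a : K | τ a = a}).mkQ)
      (fun a ha => by rw [Submodule.mkQ_apply, Submodule.Quotient.mk_eq_zero]; exact Submodule.subset_span ha) x
    rwa [Submodule.mkQ_apply, Submodule.Quotient.mk_eq_zero] at hx
  haveI : Fintype bset := Fintype.ofFinite bset
  let b : Basis bset F K := Basis.mk hbli (by rwa [Subtype.range_coe])
  have hbfix : ∀ i, τ (b i) = b i := fun i => by rw [Basis.mk_apply]; exact hbsub i.2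
  let δ := (Algebra.traceForm F K).dualBasis (traceForm_nondegenerate F K) b
  have hδ : ∀ i j, Algebra.trace F K (δ i * b j) = if j = i then 1 else 0 :=
    fun i j => LinearMap.BilinForm.apply_dualBasis_left (traceForm_nondegenerate F K) b i j
  have hrepr : ∀ y i, b.repr y i = Algebra.trace F K (δ i * y) := fun y i => by
    conv_rhs => rw [← b.sum_repr y]
    simp only [Finset.mul_sum, map_sum, mul_smul_comm, map_smul, hδ, smul_eq_mul, mul_ite, mul_one, mul_zero]
    rw [Finset.sum_ite_eq' Finset.univ i, if_pos (Finset.mem_univ i)]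
  have htr : ∀ a b' : K, (∀ i, Algebra.trace F K (a * b i) = Algebra.trace F K (b' * b i)) → a = b' := by
    intro a b' hab
    by_contra hne
    obtain ⟨w, -, hw⟩ := S.ext.exists_fixed_trace (sub_ne_zero.2 hne)
    refine hw ?_
    rw [← b.sum_repr w, Finset.sum_mul, map_sum]
    refine Finset.sum_eq_zero fun i _ => ?_
    rw [smul_mul_assoc, map_smul, mul_sub, map_sub, mul_comm (b i) a, mul_comm (b i) b', hab, sub_self, smul_zero]
  have hδfix : ∀ i, τ (δ i) = δ i := fun i => htr _ _ fun j => by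
    rw [show τ (δ i) * b j = τ (δ i * b j) by rw [map_mul, hbfix], S.ext.trace_conj, hδ]
    split_ifs <;> simp
  have hsq : LinearIndependent F fun i => δ i * δ i := by
    rw [Fintype.linearIndependent_iff]
    intro g hg i
    choose r hr using fun j => FiniteField.isSquare_of_char_two (ringChar.eq F 2) (g j)
    have h1 : (∑ j, r j • δ j) ^ 2 = 0 := by
      rw [CharTwo.sum_sq, ← hg]
      exact Finset.sum_congr rfl fun j _ => by rw [smul_pow, sq, sq, hr j]
    have h3 := Fintype.linearIndependent_iff.1 δ.linearIndependent r (pow_eq_zero_iff two_ne_zero |>.1 h1) i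
    rw [hr i, h3, mul_zero]
  obtain ⟨i₀⟩ : Nonempty bset := by
    by_contra hne
    rw [not_nonempty_iff] at hne
    exact one_ne_zero (α := K) (by rw [← b.sum_repr 1]; simp)
  refine ⟨b i₀ • z₁, smul_ne_zero (b.ne_zero i₀) hz0, by simp [map_smulₛₗ, hz], fun g c hg => ?_⟩
  -- an element over the extension with prescribed diagonal
  have hcard : Fintype.card bset = finrank F K := (Module.finrank_eq_card_basis b).symm
  haveI : Nonempty bset := ⟨i₀⟩
  let b2 := basisOfLinearIndependentOfCardEqFinrank hsq hcard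
  obtain ⟨ψ, hψ⟩ := exists_lift (K := K) (V := K) (Algebra.trace_ne_zero F K) (c • b2.coord i₀)
  set k := ψ 1 with hk
  have hkδ : ∀ i, Algebra.trace F K (k * δ i * δ i) = if i = i₀ then c else 0 := fun i => by
    have h1 := hψ (δ i * δ i)
    rw [show δ i * δ i = b2 i by simp [b2], LinearMap.smul_apply, Basis.coord_apply, b2.repr_self,
      Finsupp.single_apply] at h1
    rw [mul_assoc, hk, mul_comm, ← smul_eq_mul, ← map_smul, smul_eq_mul, mul_one,
      show δ i * δ i = b2 i by simp [b2], ← h1]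
    split_ifs <;> simp
  have hcfix : σ c = c := by rw [eq_neg_of_add_eq_zero_right hg.2.1, CharTwo.neg_eq]
  have hkfix : τ k = k := by
    by_contra hne
    obtain ⟨w, -, hw⟩ := S.ext.exists_fixed_trace (sub_ne_zero.2 hne)
    refine hw ?_
    rw [← b2.sum_repr w, Finset.sum_mul, map_sum]
    refine Finset.sum_eq_zero fun i _ => ?_
    rw [smul_mul_assoc, map_smul, mul_sub, map_sub, show b2 i = δ i * δ i by simp [b2],
      show δ i * δ i * τ k = τ (k * δ i * δ i) by rw [map_mul, map_mul, hδfix]; ring,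
      S.ext.trace_conj, show δ i * δ i * k = k * δ i * δ i by ring, hkδ]
    split_ifs <;> simp [hcfix]
  set C : bset → bset → F := fun i j => Algebra.trace F K (k * δ i * δ j) with hC
  have hCs : ∀ i j, C j i = C i j := fun i j => by simp only [hC]; rw [mul_right_comm]
  have hCfix : ∀ i j, σ (C i j) = C i j := fun i j => by
    simp only [hC]; rw [← S.ext.trace_conj, map_mul τ, map_mul τ, hkfix, hδfix, hδfix]
  let E : V →ₗ[F] V := ((k • h z₁).smulRight z₁).restrictScalars F
  have hE : HasU M E := S.hasU_kTv hz (by rw [hkfix, CharTwo.add_self_eq_zero])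
  let G : Finset bset → (V →ₗ[F] V) := fun s =>
    ∑ i ∈ s, ∑ j ∈ s, (if i = j then 0 else C i j) • (B (b i • z₁)).smulRight (b j • z₁)
  have hline : ∀ p q : K, B (p • z₁) (q • z₁) = 0 := fun p q =>
    S.line_isotropic hz (smul_mem_line z₁ p) (smul_mem_line z₁ q)
  have hGline : ∀ s x, ∃ p : K, p • z₁ = G s x := fun s x => (mem_line (F := F)).1 (by
    simp only [G, LinearMap.sum_apply, LinearMap.smul_apply, LinearMap.smulRight_apply]
    exact Submodule.sum_mem _ fun i _ => Submodule.sum_mem _ fun j _ =>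
      Submodule.smul_mem _ _ (Submodule.smul_mem _ _ (smul_mem_line z₁ _)))
  have hGkill : ∀ s p, G s (p • z₁) = 0 := fun s p => by
    simp only [G, LinearMap.sum_apply, LinearMap.smul_apply, LinearMap.smulRight_apply]
    exact Finset.sum_eq_zero fun i _ => Finset.sum_eq_zero fun j _ => by rw [hline, zero_smul, smul_zero]
  have hG : ∀ s, HasU M (G s) := by
    intro s
    induction s using Finset.induction with
    | empty => exact HasU.zero.congr fun x => by simp [G]
    | insert a s ha ih =>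
      set w : K := ∑ j ∈ s, (C a j / α) • b j with hw
      have hwfix : τ w = w := by
        rw [hw, map_sum]
        exact Finset.sum_congr rfl fun j _ =>
          S.ext.fixed_smul (by rw [map_div₀, hCfix, hαfix]) (hbfix j)
      refine (ih.add (hsym _ _ (hbfix a) hwfix) fun x => ?_).congr fun x => ?_
      · simp only [usym_apply, map_smul, map_add]
        simp only [G, LinearMap.sum_apply, LinearMap.smul_apply, LinearMap.smulRight_apply, hline, zero_smul,
          smul_zero, Finset.sum_const_zero, add_zero]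
      · have hne : ∀ j ∈ s, a ≠ j := fun j hj e => ha (e ▸ hj)
        simp only [G, LinearMap.add_apply, LinearMap.sum_apply, LinearMap.smul_apply, LinearMap.smulRight_apply,
          usym_apply, Finset.sum_insert ha, if_pos, zero_smul, zero_add, smul_smul, Finset.sum_add_distrib]
        rw [add_comm]
        rw [← add_assoc]
        congr 1
        have e1 : ∑ i ∈ s, ((if i = a then 0 else C i a) * B (b i • z₁) x) • b a • z₁ =
            ∑ i ∈ s, (C a i * B (b i • z₁) x) • b a • z₁ := Finset.sum_congr rfl fun i hi => by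
          rw [if_neg (Ne.symm (hne i hi)), hCs]
        have e2 : ∑ j ∈ s, ((if a = j then 0 else C a j) * B (b a • z₁) x) • b j • z₁ =
            ∑ j ∈ s, (C a j * B (b a • z₁) x) • b j • z₁ := Finset.sum_congr rfl fun i hi => by
          rw [if_neg (hne i hi)]
        rw [e1, e2, hw]
        simp only [Finset.sum_smul, smul_assoc, map_sum, map_smulₛₗ, LinearMap.sum_apply, LinearMap.smul_apply,
          smul_add, Finset.smul_sum, smul_smul]
        refine congrArg₂ (· + ·) (Finset.sum_congr rfl fun i hi => ?_) (Finset.sum_congr rfl fun i hi => ?_)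
        · congr 1
          field_simp
        · congr 1
          rw [map_div₀, hCfix, hαfix]
          field_simp
  have hEexp : ∀ x, E x = ∑ i, ∑ j, (C i j * B (b i • z₁) x) • b j • z₁ := fun x => by
    have e1 : k * h z₁ x = ∑ i, ∑ j, (C i j * B (b i • z₁) x) • b j := by
      conv_lhs => rw [← δ.sum_repr (h z₁ x), Finset.mul_sum]
      refine Finset.sum_congr rfl fun i _ => ?_
      rw [LinearMap.BilinForm.dualBasis_repr_apply, mul_smul_comm]
      conv_lhs => rw [← b.sum_repr (k * δ i), Finset.smul_sum]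
      refine Finset.sum_congr rfl fun j _ => ?_
      rw [hrepr, smul_smul, S.eq, map_smulₛₗ, LinearMap.smul_apply, hbfix, smul_eq_mul, Algebra.traceForm_apply,
        mul_comm (h z₁ x) (b i), mul_comm (Algebra.trace F K _) (Algebra.trace F K (δ j * _))]
      congr 2
      simp only [hC]
      ring_nf
    show (k * h z₁ x) • z₁ = _
    rw [e1]
    simp only [Finset.sum_smul, smul_assoc]
  have hT : HasU M (E + -G Finset.univ) := hE.add ((hG _).neg fun x => by
      obtain ⟨p, hp⟩ := hGline Finset.univ x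
      rw [← hp, hGkill]) fun x => by
    obtain ⟨p, hp⟩ := hGline Finset.univ x
    simp [E, ← hp, hz]
  obtain ⟨g', hg', hgx⟩ := hT
  have e : g = g' := Subtype.ext (LinearEquiv.ext fun x => by
    rw [hg.2.2, hgx, LinearMap.add_apply, LinearMap.neg_apply, hEexp, ← sub_eq_add_neg]
    simp only [G, LinearMap.sum_apply, LinearMap.smul_apply, LinearMap.smulRight_apply, smul_smul,
      ← Finset.sum_sub_distrib, ← sub_smul, ← sub_mul]
    congr 1
    rw [Finset.sum_eq_single i₀ (fun i _ hi => Finset.sum_eq_zero fun j _ => by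
        by_cases hij : i = j
        · subst hij; simp [hC, hkδ, hi]
        · simp [hij]) (fun hn => absurd (Finset.mem_univ _) hn),
      Finset.sum_eq_single i₀ (fun j _ hj => by simp [Ne.symm hj]) (fun hn => absurd (Finset.mem_univ _) hn)]
    simp [hC, hkδ])
  exact e ▸ hg'

/-- Some isotropic vector is an axis. -/
theorem Setting.exists_axis {g : isomGroup B} (hg : g ∈ M) {a : V} (haa : h a a = 0)
    (hzz : h (g.1 a) (g.1 a) = 0) {k₀ : K} (hk₀ : g.1 (k₀ • a) ∉ line F K (g.1 a))
    (hbig : finrank F K ≤ finrank F ↥((line F K a).map (g.1 : V →ₗ[F] V) ⊓ line F K (g.1 a)) + 1) :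
    ∃ u : V, u ≠ 0 ∧ h u u = 0 ∧ IsTAxis M u := by
  have ha0 : a ≠ 0 := by rintro rfl; exact hk₀ (by simp)
  set z := g.1 a with hz
  set P := (line F K a).map (g.1 : V →ₗ[F] V) with hP
  set L := line F K z with hL
  set D := P ⊓ L with hD
  set y := g.1 (k₀ • a) with hy
  have hz0 : z ≠ 0 := fun e => ha0 (g.1.injective (e.trans (map_zero g.1).symm))
  have hzD : z ∈ D := ⟨⟨a, self_mem_line a, rfl⟩, self_mem_line z⟩
  have hyP : y ∈ P := ⟨k₀ • a, smul_mem_line a k₀, rfl⟩
  have hPP : ∀ u ∈ P, ∀ v ∈ P, B u v = 0 := fun u hu v hv => S.image_isotropic g haa hu hv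
  have hPfin : finrank F P = finrank F K := finrank_image_line g ha0
  have hLz : ∀ x ∈ L, h z x = 0 := fun x hx => by
    obtain ⟨l, rfl⟩ := mem_line.1 hx
    rw [map_smul, hzz, smul_zero]
  have hdec : ∀ x ∈ P, ∃ e : F, x - e • y ∈ D := fun x hx =>
    exists_of_hyperplane (D := D) inf_le_left hyP (fun hm => hk₀ hm.2) (by rw [hPfin]; exact hbig) x hx
  obtain ⟨χ, hχy, hχD⟩ := Submodule.exists_dual_map_eq_bot_of_notMem (fun hm : y ∈ D => hk₀ hm.2) inferInstance
  obtain ⟨x₀, hx₀⟩ := S.hermB.exists_form_eq S.sepB ((χ y)⁻¹ • χ)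
  have hx₀D : ∀ d ∈ D, B x₀ d = 0 := fun d hd => by
    have : χ d ∈ D.map χ := ⟨d, hd, rfl⟩
    rw [hχD, Submodule.mem_bot] at this
    rw [hx₀, LinearMap.smul_apply, this, smul_zero]
  have hx₀y : B x₀ y = 1 := by rw [hx₀, LinearMap.smul_apply, smul_eq_mul, inv_mul_cancel₀ hχy]
  have hinv : ∀ u v, B (g.1 u) v = B u (g.1.symm v) := fun u v => by
    rw [← g.2 u (g.1.symm v), g.1.apply_symm_apply]
  set κ := h a (g.1.symm x₀) with hκ
  have hκ0 : κ ≠ 0 := by
    intro e
    have h1 : B y x₀ = 1 := by rw [← S.hermB.symm, hx₀y, map_one]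
    rw [hy, hinv, S.eq, map_smulₛₗ, LinearMap.smul_apply, ← hκ, e, smul_zero, map_zero] at h1
    exact zero_ne_one h1
  obtain ⟨c₀, hc₀0, hc₀⟩ := S.ext.conjF.exists_trace_zero
  obtain ⟨γ, hγ, hγν⟩ := S.ext.exists_fixed_trace (mul_ne_zero ((map_ne_zero τ).2 hκ0) hκ0)
  set k := c₀ • γ with hk
  have hkτ : k + τ k = 0 := S.ext.skew_smul_fixed hc₀ hγ
  set A : V →ₗ[F] V := (g.1 : V →ₗ[F] V) ∘ₗ ((k • h a).smulRight a).restrictScalars F ∘ₗ
    (g.1.symm : V →ₗ[F] V) with hA
  have hAM : HasU M A := (S.hasU_kTv haa hkτ).conj hg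
  have hAx : ∀ x, A x = g.1 ((k * h a (g.1.symm x)) • a) := fun x => rfl
  have hAP : ∀ x, A x ∈ P := fun x => ⟨_, smul_mem_line a _, rfl⟩
  have hAs : ∀ x v, B (A x) v = -B x (A v) := fun x v => by
    have h1 : B x (A v) = σ (B (A v) x) := (S.hermB.symm _ _).symm
    rw [h1, hAx, hAx, hinv, hinv, S.eq, S.eq, ← S.ext.trace_conj, ← map_neg]
    congr 1
    simp only [map_smulₛₗ, LinearMap.smul_apply, smul_eq_mul, map_mul, S.ext.conjK.invol]
    rw [eq_neg_of_add_eq_zero_right hkτ]
    ring
  set q := A x₀ with hq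
  set c := B x₀ q with hc
  have hc0 : c ≠ 0 := by
    rw [hc, hq, hAx, ← S.hermB.symm, hinv, S.eq, map_smulₛₗ, LinearMap.smul_apply, ← hκ, smul_eq_mul, map_mul τ,
      eq_neg_of_add_eq_zero_right hkτ, hk, neg_mul, neg_mul, map_neg, smul_mul_assoc, smul_mul_assoc, map_smul]
    simp only [map_neg, ne_eq, neg_eq_zero, smul_eq_mul, map_mul, mul_eq_zero, map_eq_zero, hc₀0, false_or]
    rwa [mul_assoc]
  have hcs : c + σ c = 0 := by rw [hc, hq, S.hermB.symm, hAs]; ring
  have hqP : q ∈ P := hAP x₀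
  have hqD : q ∉ D := fun hm => hc0 (hx₀D q hm)
  have hdecq : ∀ x ∈ P, x - (B x₀ x / c) • q ∈ D := fun x hx => by
    obtain ⟨e, he⟩ := hdec x hx
    obtain ⟨e', he'⟩ := hdec q hqP
    have h1 : B x₀ x = e := by
      have := hx₀D _ he
      rwa [map_sub, map_smul, hx₀y, smul_eq_mul, mul_one, sub_eq_zero] at this
    have h2 : c = e' := by
      have := hx₀D _ he'
      rwa [map_sub, map_smul, hx₀y, smul_eq_mul, mul_one, sub_eq_zero] at this
    have h3 := D.sub_mem he (D.smul_mem (e / e') he')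
    rw [h1, h2]
    have he0 : e' ≠ 0 := h2 ▸ hc0
    rwa [show x - e • y - (e / e') • (q - e' • y) = x - (e / e') • q by
      rw [smul_sub, smul_smul, div_mul_cancel₀ _ he0]; abel] at h3
  set α := -c⁻¹ with hα
  have hα0 : α ≠ 0 := neg_ne_zero.2 (inv_ne_zero hc0)
  have hαs : α + σ α = 0 := by
    rw [hα, map_neg, map_inv₀, eq_neg_of_add_eq_zero_right hcs, inv_neg]; ring
  set R : V →ₗ[F] V := A - α • (B q).smulRight q with hR
  have hRx : ∀ x, R x = A x - (α * B q x) • q := fun x => by simp [hR, smul_smul]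
  have hRs : ∀ x v, B (R x) v = -B x (R v) := fun x v => by
    simp only [hRx, map_sub, LinearMap.sub_apply, map_smul, map_smulₛₗ, LinearMap.smul_apply, smul_eq_mul, hAs x v]
    rw [map_mul, S.hermB.symm, eq_neg_of_add_eq_zero_right hαs]
    ring
  have hRP : ∀ x, R x ∈ P := fun x => by rw [hRx]; exact P.sub_mem (hAP x) (P.smul_mem _ hqP)
  have hRD : ∀ x, R x ∈ D := fun x => by
    have h1 : B x₀ (R x) = 0 := by
      have h2 : B x₀ (A x) = -B q x := by rw [hq, hAs, neg_neg]
      rw [hRx, map_sub, map_smul, smul_eq_mul, h2, ← hc, hα, neg_mul, neg_mul, mul_assoc,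
        mul_comm (B q x) c, inv_mul_cancel_left₀ hc0]
      ring
    have := hdecq _ (hRP x)
    rwa [h1, zero_div, zero_smul, sub_zero] at this
  have hRkill : ∀ p ∈ P, R p = 0 := fun p hp => S.sepB _ fun v => by
    rw [← S.hermB.symm, hRs, hPP p hp _ (hRP v), neg_zero, map_zero]
  let Qw : V → (V →ₗ[F] V) := fun w => α • (B (q + w)).smulRight (q + w) + R
  have hQP : ∀ w ∈ D, ∀ x, Qw w x ∈ P := fun w hw x =>
    P.add_mem (P.smul_mem _ (P.smul_mem _ (P.add_mem hqP hw.1))) (hRP x)
  have hQkill : ∀ w ∈ D, ∀ p ∈ P, Qw w p = 0 := fun w hw p hp => by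
    simp only [Qw, LinearMap.add_apply, LinearMap.smul_apply, LinearMap.smulRight_apply, hRkill p hp,
      hPP _ (P.add_mem hqP hw.1) p hp, zero_smul, smul_zero, add_zero]
  -- translations give conjugates
  have hQ : ∀ w, (∃ t ∈ M, t.1 q = q + w ∧ ∀ d ∈ D, t.1 d = d) → HasU M (Qw w) := by
    rintro w ⟨t, ht, htq, htD⟩
    refine (hAM.conj ht).congr fun x => ?_
    obtain ⟨v, rfl⟩ := t.1.surjective x
    have hRt : R (t.1 v) = R v := by
      refine sub_eq_zero.1 (S.sepB _ fun u => ?_)
      rw [← S.hermB.symm, map_sub, LinearMap.sub_apply, hRs, hRs]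
      conv_lhs => arg 2; arg 1; arg 1; rw [← htD _ (hRD u), t.2]
      rw [sub_self, map_zero]
    show t.1 (A (t.1.symm (t.1 v))) = _
    rw [t.1.symm_apply_apply, show A v = (α * B q v) • q + R v by rw [hRx]; abel, map_add, map_smul, htq,
      htD _ (hRD v)]
    simp only [Qw, LinearMap.add_apply, LinearMap.smul_apply, LinearMap.smulRight_apply, hRt, smul_smul]
    rw [← htq, isomGroup_apply]
  have hpair : ∀ u ∈ D, ∀ v ∈ D, (∃ t ∈ M, t.1 q = q + u ∧ ∀ d ∈ D, t.1 d = d) →
      (∃ t ∈ M, t.1 q = q + v ∧ ∀ d ∈ D, t.1 d = d) →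
      (∃ t ∈ M, t.1 q = q + (u + v) ∧ ∀ d ∈ D, t.1 d = d) → HasU M (usym B α u v) := by
    intro u hu v hv tu tv tuv
    have huv := D.add_mem hu hv
    have h0 : HasU M (Qw 0) := hQ 0 ⟨1, M.one_mem, by simp, fun d _ => rfl⟩
    have h1 : HasU M (Qw (u + v) + -Qw u) := (hQ _ tuv).add
      ((hQ _ tu).neg fun x => hQkill u hu _ (hQP u hu x)) fun x => by
        rw [LinearMap.neg_apply, map_neg, hQkill _ huv _ (hQP u hu x), neg_zero]
    have h2 : HasU M (Qw (u + v) + -Qw u + -Qw v) := h1.add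
      ((hQ _ tv).neg fun x => hQkill v hv _ (hQP v hv x)) fun x => by
        simp only [LinearMap.add_apply, LinearMap.neg_apply, map_neg, hQkill _ huv _ (hQP v hv x),
          hQkill _ hu _ (hQP v hv x), neg_zero, add_zero]
    have h3 := h2.add h0 fun x => by
      simp only [LinearMap.add_apply, LinearMap.neg_apply, hQkill _ huv _ (hQP 0 D.zero_mem x),
        hQkill _ hu _ (hQP 0 D.zero_mem x), hQkill _ hv _ (hQP 0 D.zero_mem x), neg_zero, add_zero]
    refine h3.congr fun x => ?_
    simp only [Qw, usym_apply, LinearMap.add_apply, LinearMap.neg_apply, LinearMap.smul_apply,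
      LinearMap.smulRight_apply, map_add, map_zero, LinearMap.zero_apply, add_zero]
    module
  by_cases hzq : h z q = 0
  · -- translations by the whole of `D`
    have hall : ∀ x ∈ P, h z x = 0 := fun x hx => by
      have h1 := hLz _ (hdecq x hx).2
      rwa [map_sub, LinearMap.map_smul_of_tower, hzq, smul_zero, sub_zero] at h1
    have hqL : q ∉ L := fun hm => hqD ⟨hqP, hm⟩
    obtain ⟨ψ, hψz, hψq, hT⟩ := S.exists_translate hzz hzq hqL
    have htr : ∀ w ∈ D, ∃ t ∈ M, t.1 q = q + w ∧ ∀ d ∈ D, t.1 d = d := fun w hw => by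
      obtain ⟨l, rfl⟩ := mem_line.1 hw.2
      obtain ⟨t, ht, -, htx⟩ := hT l
      refine ⟨t, ht, by rw [htx q hzq, hψq, one_mul], fun d hd => ?_⟩
      obtain ⟨p, rfl⟩ := mem_line.1 hd.2
      rw [htx _ (hLz _ hd.2), map_smul, hψz, smul_zero, zero_mul, zero_smul, add_zero]
    refine ⟨z, hz0, hzz, fun g' c' hg' => ?_⟩
    obtain ⟨s, hs⟩ := S.ext.conjF.exists_trace_eq (a := c' / α)
      (by rw [map_div₀, eq_neg_of_add_eq_zero_right hg'.2.1, eq_neg_of_add_eq_zero_right hαs, neg_div_neg_eq])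
    have hsz : s • z ∈ D := D.smul_mem s hzD
    obtain ⟨t, ht, htx⟩ := hpair z hzD _ hsz (htr _ hzD) (htr _ hsz) (htr _ (D.add_mem hzD hsz))
    have e : g' = t := Subtype.ext (LinearEquiv.ext fun x => by
      rw [hg'.2.2, htx, usym_apply, map_smulₛₗ, LinearMap.smul_apply, smul_eq_mul]
      rw [smul_smul (B z x), ← add_smul, smul_smul]
      congr 2
      rw [eq_div_iff hα0] at hs
      linear_combination -(B z x) * hs)
    exact e ▸ ht
  -- translations by a real hyperplane
  have hker : ∀ x ∈ P, h z x = 0 → x ∈ L := fun x hx hx0 => by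
    have h1 := hdecq x hx
    have h2 := hLz _ h1.2
    rw [map_sub, LinearMap.map_smul_of_tower, hx0, zero_sub, neg_eq_zero, smul_eq_zero] at h2
    rw [h2.resolve_right hzq, zero_smul, sub_zero] at h1
    exact h1.2
  set η := h z q with hη
  set ν := τ η * η with hν
  set z₁ := (c₀ • η) • z with hz₁
  have hz₁0 : z₁ ≠ 0 := smul_ne_zero (smul_ne_zero hc₀0 hzq) hz0
  have hz₁z : h z₁ z₁ = 0 := by simp only [hz₁, map_smulₛₗ, LinearMap.smul_apply, hzz, smul_zero]
  have htr : ∀ γ, τ γ = γ → Algebra.trace F K (γ * ν) = 0 →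
      γ • z₁ ∈ D ∧ ∃ t ∈ M, t.1 q = q + γ • z₁ ∧ ∀ d ∈ D, t.1 d = d := by
    intro γ hγ hγν
    refine ⟨⟨?_, ?_⟩, ?_⟩
    · rw [hz₁, smul_smul]
      refine S.mem_image_of_annihilates g haa ha0 hz0 hker hzz fun x hx => ?_
      have h1 := hLz _ (hdecq x hx).2
      rw [map_sub, LinearMap.map_smul_of_tower, sub_eq_zero] at h1
      rw [h1, ← hη, mul_smul_comm, map_smul, map_mul τ, hγ, S.ext.map_smul', mul_smul_comm, smul_mul_assoc, map_smul,
        mul_assoc, ← hν, hγν, smul_zero, smul_zero]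
    · rw [hz₁, smul_smul]; exact smul_mem_line z _
    · obtain ⟨t, ht, htx⟩ := S.exists_kTv hzz (S.ext.skew_smul_fixed hc₀ hγ)
      refine ⟨t, ht, ?_, fun d hd => by rw [htx, hLz d hd.2, mul_zero, zero_smul, add_zero]⟩
      rw [htx, ← hη, hz₁, smul_smul γ, mul_smul_comm, smul_mul_assoc]
  refine S.axis_of_real hα0 hαs hz₁0 hz₁z fun x y hx hy => ?_
  -- scale both scalars into the hyperplane
  obtain ⟨b, hb, hb0, hbx, hby⟩ : ∃ b, τ b = b ∧ b ≠ 0 ∧ Algebra.trace F K (b * x * ν) = 0 ∧
      Algebra.trace F K (b * y * ν) = 0 := by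
    let Φ : K →ₗ[F] F × F := (Algebra.trace F K ∘ₗ LinearMap.mulRight F (x * ν)).prod
      (Algebra.trace F K ∘ₗ LinearMap.mulRight F (y * ν))
    have h1 := LinearMap.finrank_range_add_finrank_ker Φ
    have h2 : finrank F (LinearMap.range Φ) ≤ 2 :=
      (Submodule.finrank_le _).trans (by rw [Module.finrank_prod, finrank_self])
    obtain ⟨⟨l, hl⟩, hne⟩ := finrank_pos_iff_exists_ne_zero.1
      (show 0 < finrank F (LinearMap.ker Φ) by have := S.three; omega)
    have hl0 : l ≠ 0 := fun e => hne (Subtype.ext e)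
    rw [LinearMap.mem_ker] at hl
    have hlx : Algebra.trace F K (l * (x * ν)) = 0 := congrArg Prod.fst hl
    have hly : Algebra.trace F K (l * (y * ν)) = 0 := congrArg Prod.snd hl
    have hνfix : τ ν = ν := by rw [hν, map_mul, S.ext.conjK.invol, mul_comm]
    have hc' : ∀ w, τ w = w → Algebra.trace F K (l * w) = 0 → Algebra.trace F K (τ l * w) = 0 := fun w hw h0 => by
      rw [show τ l * w = τ (l * w) by rw [map_mul, hw], S.ext.trace_conj, h0, map_zero]
    have hlx' := hc' _ (by rw [map_mul, hx, hνfix]) hlx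
    have hly' := hc' _ (by rw [map_mul, hy, hνfix]) hly
    by_cases h0 : l + τ l = 0
    · refine ⟨c₀ • l, ?_, smul_ne_zero hc₀0 hl0, ?_, ?_⟩
      · rw [S.ext.map_smul', eq_neg_of_add_eq_zero_right hc₀, eq_neg_of_add_eq_zero_right h0]
        simp
      · rw [mul_assoc, smul_mul_assoc, map_smul, hlx, smul_zero]
      · rw [mul_assoc, smul_mul_assoc, map_smul, hly, smul_zero]
    · refine ⟨l + τ l, by rw [map_add, S.ext.conjK.invol, add_comm], h0, ?_, ?_⟩
      · rw [mul_assoc, add_mul, map_add, hlx, hlx', add_zero]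
      · rw [mul_assoc, add_mul, map_add, hly, hly', add_zero]
  obtain ⟨e, he, hex⟩ := S.exists_scale hz₁z hz₁0 (a := b⁻¹) (by rw [map_inv₀, hb]) (inv_ne_zero hb0)
  obtain ⟨hu, tu⟩ := htr (b * x) (by rw [map_mul, hb, hx]) hbx
  obtain ⟨hv, tv⟩ := htr (b * y) (by rw [map_mul, hb, hy]) hby
  obtain ⟨-, tuv⟩ := htr (b * x + b * y) (by simp [map_add, map_mul, hb, hx, hy])
    (by rw [add_mul, map_add, hbx, hby, add_zero])
  rw [add_smul] at tuv
  refine ((hpair _ hu _ hv tu tv tuv).conj he).congr fun w => ?_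
  rw [LinearMap.comp_apply, LinearMap.comp_apply]
  have ex : ∀ p : K, e.1 ((b * p) • z₁) = p • z₁ := fun p => by
    rw [hex, mul_comm b p, mul_inv_cancel_right₀ hb0]
  rw [← ex x, ← ex y, usym_conj]
  rfl

end CfsgLib.Classical.FieldExtUnitary
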