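import Cfsg.Agent.Lib.Classical.FieldExtUnitary.Basic
import Cfsg.Agent.Lib.Classical.FieldExtUnitary.Gram

/-!
# Images of isotropic lines: finding one which meets a line in a hyperplane
-/

set_option autoImplicit false
set_option linter.unusedSectionVars false

open Module

namespace CfsgLib.Classical.FieldExtUnitary

open CfsgLib.Classical.FieldExtMax (line mem_line smul_mem_line self_mem_line finrank_line smul_mem_of_stable
  exists_functional line_eq_of_mem line_le_iff)

variable {F K V : Type*} [Field F] [Field K] [Finite F] [Finite K] [Algebra F K] [FiniteDimensional F K]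
  [AddCommGroup V] [Module F V] [Module K V] [IsScalarTower F K V] [FiniteDimensional K V] [FiniteDimensional F V]
  {σ : F →+* F} {τ : K →+* K} {h : V →ₛₗ[τ] V →ₗ[K] K} {B : V →ₛₗ[σ] V →ₗ[F] F}
  {M : Subgroup (isomGroup B)}

theorem finrank_image_line (g : isomGroup B) {a : V} (ha : a ≠ 0) :
    finrank F ((line F K a).map (g.1 : V →ₗ[F] V)) = finrank F K :=
  (LinearEquiv.finrank_map_eq g.1 _).trans (finrank_line ha)

variable (S : Setting h B M)
include S

/-- A map preserving every isotropic line is semilinear. -/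
theorem Setting.semilinear_of_isotropic (g : isomGroup B)
    (hall : ∀ a : V, h a a = 0 → ∀ k : K, g.1 (k • a) ∈ line F K (g.1 a)) (k : K) :
    ∃ k' : K, ∀ x, g.1 (k • x) = k' • g.1 x := by
  -- the multiplier at a line transfers to a paired isotropic line
  have pair : ∀ a b : V, h a a = 0 → h b b = 0 → h a b = 1 → ∀ p : K, g.1 (k • a) = p • g.1 a →
      ∀ w ∈ line F K b, g.1 (k • w) = p • g.1 w := by
    intro a b ha hb hab p hp w hw
    obtain ⟨l, rfl⟩ := mem_line.1 hw
    let f : K →ₗ[F] V :=
      (g.1 : V →ₗ[F] V) ∘ₗ (DistribSMul.toLinearMap F V k) ∘ₗ (LinearMap.toSpanSingleton K V b).restrictScalars F -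
        (DistribSMul.toLinearMap F V p) ∘ₗ (g.1 : V →ₗ[F] V) ∘ₗ (LinearMap.toSpanSingleton K V b).restrictScalars F
    suffices hf : f l = 0 by simpa [f, sub_eq_zero] using hf
    refine S.ext.ext_skew (fun γ hγ => ?_) l
    suffices h0 : g.1 (k • γ • b) = p • g.1 (γ • b) by simpa [f, sub_eq_zero] using h0
    rcases eq_or_ne γ 0 with rfl | hγ0
    · simp
    have hb' : h (γ • b) (γ • b) = 0 := by simp [map_smulₛₗ, hb]
    have hs : h (a + γ • b) (a + γ • b) = 0 := by
      rw [S.herm.add_self, hb', ha, map_smul, hab, smul_eq_mul, mul_one, hγ, add_zero, add_zero]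
    obtain ⟨s, hs⟩ := mem_line.1 (hall _ hs k)
    obtain ⟨p', hp'⟩ := mem_line.1 (hall _ hb' k)
    rw [smul_add, map_add, map_add, hp, ← hp', smul_add] at hs
    have hind : ∀ u v : K, u • g.1 a = v • g.1 (γ • b) → u = 0 := by
      intro u v huv
      by_contra hu
      have hb0 : γ • b ≠ 0 := smul_ne_zero hγ0 fun e => by simp [e] at hab
      have hmap : (line F K (γ • b)).map (g.1 : V →ₗ[F] V) = line F K (g.1 (γ • b)) := by
        refine Submodule.eq_of_le_of_finrank_le ?_ ?_
        · rintro _ ⟨x, hx, rfl⟩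
          obtain ⟨t, rfl⟩ := mem_line.1 hx
          exact hall _ hb' t
        · rw [finrank_image_line g hb0, finrank_line fun e => hb0 (g.1.injective (e.trans (map_zero _).symm))]
      have h1 : g.1 a ∈ line F K (g.1 (γ • b)) :=
        mem_line.2 ⟨u⁻¹ * v, by rw [mul_smul, ← huv, inv_smul_smul₀ hu]⟩
      rw [← hmap] at h1
      obtain ⟨x, hx, hxa⟩ := h1
      obtain ⟨t, rfl⟩ := mem_line.1 hx
      have h2 : t • γ • b = a := g.1.injective hxa
      rw [← h2] at hab
      simp [map_smulₛₗ, hb] at hab
    have h1 : (s - p) • g.1 a = (p' - s) • g.1 (γ • b) := by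
      rw [sub_smul, sub_smul]; linear_combination (norm := module) hs
    have h2 : s = p := sub_eq_zero.1 (hind _ _ h1)
    rw [h2, sub_self, zero_smul, eq_comm, sub_smul, sub_eq_zero] at h1
    rw [← hp', h1]
  have hT : NondegOn h (⊤ : Submodule K V) := nondegOn_iff.2 fun x _ hx => S.sep x fun w => hx w trivial
  obtain ⟨a, b, -, -, ha, hb, hab⟩ := S.herm.exists_hyp_in hT (by rw [finrank_top]; exact S.two)
  have hba : h b a = 1 := by rw [← S.herm.symm, hab, map_one]
  obtain ⟨p, hp⟩ := mem_line.1 (hall a ha k)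
  refine ⟨p, fun x => ?_⟩
  have hbp : g.1 (k • b) = p • g.1 b := pair a b ha hb hab p hp.symm b (self_mem_line b)
  have main : ∀ c, h c c = 0 → g.1 (k • c) = p • g.1 c := by
    intro c hc
    by_cases h1 : h a c = 0
    · by_cases h2 : h b c = 0
      · have hac : h (c + a) (c + a) = 0 := by
          rw [S.herm.add_self, hc, ha, S.herm.isRefl _ _ h1]; simp
        have h3 : h b (c + a) = 1 := by rw [map_add, h2, hba, zero_add]
        have h4 := pair b (c + a) hb hac h3 p hbp _ (self_mem_line _)
        rw [smul_add, map_add, map_add, ← hp, smul_add, add_left_inj] at h4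
        exact h4
      · exact pair b ((h b c)⁻¹ • c) hb (by simp [map_smulₛₗ, hc]) (by simp [h2]) p hbp c
          (mem_line.2 ⟨h b c, smul_inv_smul₀ h2 c⟩)
    · exact pair a ((h a c)⁻¹ • c) ha (by simp [map_smulₛₗ, hc]) (by simp [h1]) p hp.symm c
        (mem_line.2 ⟨h a c, smul_inv_smul₀ h1 c⟩)
  have hspan := S.herm.le_span_isotropic hT (by rw [finrank_top]; exact S.two) (Submodule.mem_top (x := x))
  have key : ∀ y ∈ Submodule.span K {x | x ∈ (⊤ : Submodule K V) ∧ h x x = 0}, g.1 (k • y) = p • g.1 y := by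
    intro y hy
    induction hy using Submodule.closure_induction with
    | zero => simp
    | add u v _ _ hu hv => rw [smul_add, map_add, hu, hv, map_add, smul_add]
    | smul_mem c u hu => exact main _ (by simp [map_smulₛₗ, hu.2])
  exact key x hspan

/-- An element moving the image of an isotropic line gives one fixing the base point. -/
theorem Setting.exists_start {g : isomGroup B} (hg : g ∈ M) {a : V} (haa : h a a = 0) {k : K}
    (hk : g.1 (k • a) ∉ line F K (g.1 a)) :
    ∃ g ∈ M, ∃ a : V, h a a = 0 ∧ h (g.1 a) (g.1 a) = 0 ∧ ∃ k : K, g.1 (k • a) ∉ line F K (g.1 a) := by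
  by_cases hzz : h (g.1 a) (g.1 a) = 0
  · exact ⟨g, hg, a, haa, hzz, k, hk⟩
  set z := g.1 a with hz
  set x := g.1 (k • a) with hx
  set P := (line F K a).map (g.1 : V →ₗ[F] V) with hP
  have ha0 : a ≠ 0 := by rintro rfl; exact hk (by simp [hx, hz])
  have hxP : x ∈ P := ⟨k • a, smul_mem_line a k, rfl⟩
  have hzP : z ∈ P := ⟨a, self_mem_line a, rfl⟩
  suffices ht : ∃ t ∈ M, t.1 z = z ∧ ∃ y ∈ P, t.1 y ∉ P by
    obtain ⟨t, htM, htz, y, ⟨w, hw, hwy⟩, hty⟩ := ht
    obtain ⟨l, rfl⟩ := mem_line.1 hw
    have e : (g⁻¹ * t * g).1 a = a := by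
      change g.1.symm (t.1 (g.1 a)) = a
      rw [← hz, htz, hz, g.1.symm_apply_apply]
    refine ⟨g⁻¹ * t * g, mul_mem (mul_mem (inv_mem hg) htM) hg, a, haa, by rw [e]; exact haa, l, ?_⟩
    rw [e]
    intro hmem
    refine hty ⟨_, hmem, ?_⟩
    rw [← hwy]
    exact g.1.apply_symm_apply _
  set w := x - (h z x / h z z) • z with hw
  have hzw : h z w = 0 := by
    rw [hw, map_sub, map_smul, smul_eq_mul, div_mul_cancel₀ _ hzz, sub_self]
  have hw0 : w ≠ 0 := fun e => hk (mem_line.2 ⟨h z x / h z z, (sub_eq_zero.1 e).symm⟩)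
  have hhwx : h w x = h w w := by
    conv_lhs => rw [← sub_add_cancel x ((h z x / h z z) • z), ← hw, map_add, map_smul, S.herm.isRefl _ _ hzw,
      smul_zero, add_zero]
  have hZ := nondegOn_perp S.sep (S.herm.nondegOn_span_singleton hzz)
  set Z := perp h (Submodule.span K {z}) with hZdef
  have hwZ : w ∈ Z := mem_perp_span.2 fun u hu => by rw [Set.mem_singleton_iff.1 hu]; exact hzw
  by_cases hu : ∃ u, h u u = 0 ∧ h z u = 0 ∧ h u w ≠ 0
  · obtain ⟨u, huu, hzu, huw⟩ := hu
    have hux : h u x = h u w := by
      conv_lhs => rw [← sub_add_cancel x ((h z x / h z z) • z), ← hw, map_add, map_smul, S.herm.isRefl _ _ hzu,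
        smul_zero, add_zero]
    by_contra hno
    push Not at hno
    have hKu : (⊤ : Submodule F K) ≤ P.comap ((LinearMap.toSpanSingleton K V u).restrictScalars F) := by
      rw [top_le_iff]
      refine S.ext.eq_top_of_skew huw fun c hc => ?_
      obtain ⟨t, ht, htx⟩ := S.exists_kTv huu hc
      have h1 := hno t ht (by rw [htx, S.herm.isRefl _ _ hzu, mul_zero, zero_smul, add_zero]) x hxP
      rw [htx] at h1
      have h2 := P.sub_mem h1 hxP
      rw [add_sub_cancel_left, hux] at h2
      exact h2
    have hu0 : u ≠ 0 := fun e => by simp [e] at huw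
    have hle : line F K u ≤ P := line_le_iff.2 fun l => hKu (x := l) trivial
    have heq := Submodule.eq_of_le_of_finrank_le hle (by rw [finrank_image_line g ha0, finrank_line hu0])
    obtain ⟨l, hl⟩ := mem_line.1 (heq.ge hzP)
    rw [← hl] at hzz
    simp [map_smulₛₗ, huu] at hzz
  · push Not at hu
    have hd : finrank K V = 2 := by
      by_contra hne
      have hd3 : 2 ≤ finrank K Z := by
        have h1 := (S.herm.nondegOn_span_singleton hzz).finrank_perp
        rw [finrank_span_singleton (fun e => hzz (by simp [e])), ← hZdef] at h1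
        have := S.two
        omega
      have hsp := S.herm.le_span_isotropic hZ hd3
      refine hw0 (nondegOn_iff.1 hZ w hwZ fun u huZ => ?_)
      have hle : Submodule.span K {v | v ∈ Z ∧ h v v = 0} ≤ LinearMap.ker (h w) := Submodule.span_le.2 fun v hv =>
        S.herm.isRefl _ _ (hu v hv.2 (mem_perp_span.1 hv.1 z rfl))
      exact S.herm.isRefl _ _ (hle (hsp huZ))
    obtain ⟨κ, hκ, hκF, hκN⟩ := S.circ
    have hww : h w w ≠ 0 := fun e => by
      have hZd : finrank K Z = 1 := by
        have h1 := (S.herm.nondegOn_span_singleton hzz).finrank_perp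
        rw [finrank_span_singleton (fun e => hzz (by simp [e])), ← hZdef, hd] at h1
        omega
      have hZw : Submodule.span K {w} = Z := Submodule.eq_of_le_of_finrank_le
        ((Submodule.span_singleton_le_iff_mem _ _).2 hwZ) (by rw [hZd, finrank_span_singleton hw0])
      refine hw0 (nondegOn_iff.1 hZ w hwZ fun u huZ => ?_)
      rw [← hZw] at huZ
      obtain ⟨c, rfl⟩ := Submodule.mem_span_singleton.1 huZ
      rw [map_smulₛₗ, LinearMap.smul_apply, e, smul_zero]
    obtain ⟨e, he, hdet⟩ := S.herm.exists_qr S.sep hww hκ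
    obtain ⟨t, ht, htx⟩ := S.exists_mem e (by rw [hdet]; exact hκN hd)
    by_contra hno
    push Not at hno
    have hkeep : ∀ y ∈ P, ((κ - 1) / h w w * h w y) • w ∈ P := fun y hy => by
      have h1 := hno t ht (by rw [htx, he, S.herm.isRefl _ _ hzw, mul_zero, zero_smul, add_zero]) y hy
      rw [htx, he] at h1
      simpa using P.sub_mem h1 hy
    set D := P.comap ((LinearMap.toSpanSingleton K V w).restrictScalars F)
    have h1 : κ - 1 ∈ D := by
      have := hkeep x hxP
      rwa [hhwx, div_mul_cancel₀ _ hww] at this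
    have h2 : ∀ l ∈ D, (κ - 1) • l ∈ D := fun l hl => by
      have := hkeep _ hl
      rw [show h w ((LinearMap.toSpanSingleton K V w).restrictScalars F l) = l * h w w by simp] at this
      rw [show (κ - 1) / h w w * (l * h w w) = (κ - 1) * l by field_simp] at this
      exact this
    have hκ1 : κ - 1 ≠ 0 := fun e => hκF 1 (by rw [map_one]; exact (sub_eq_zero.1 e).symm)
    have hall : ∀ l : K, l ∈ D := fun l => by
      have := smul_mem_of_stable S.prime (D := D) (k₀ := κ - 1)
        (fun c e => hκF (c + 1) (by rw [map_add, map_one, e, sub_add_cancel])) h2 (l / (κ - 1)) h1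
      rwa [smul_eq_mul, div_mul_cancel₀ _ hκ1] at this
    have heq := Submodule.eq_of_le_of_finrank_le (line_le_iff.2 fun l => hall l : line F K w ≤ P)
      (by rw [finrank_image_line g ha0, finrank_line hw0])
    obtain ⟨l, hl⟩ := mem_line.1 (heq.ge hzP)
    rw [← hl, map_smulₛₗ, LinearMap.smul_apply, smul_eq_mul] at hzw
    rcases mul_eq_zero.1 hzw with h3 | h3
    · rw [map_eq_zero τ] at h3
      rw [← hl, h3, zero_smul] at hzz
      simp at hzz
    · exact hww h3

/-- The scalars annihilating the pairings of the image give points of the image. -/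
theorem Setting.mem_image_of_annihilates (g : isomGroup B) {a z : V} (haa : h a a = 0) (ha0 : a ≠ 0) (hz0 : z ≠ 0)
    (hker : ∀ x ∈ (line F K a).map (g.1 : V →ₗ[F] V), h z x = 0 → x ∈ line F K z) (hzz : h z z = 0)
    {l : K} (hl : ∀ x ∈ (line F K a).map (g.1 : V →ₗ[F] V), Algebra.trace F K (τ l * h z x) = 0) :
    l • z ∈ (line F K a).map (g.1 : V →ₗ[F] V) := by
  set P := (line F K a).map (g.1 : V →ₗ[F] V)
  let f : P →ₗ[F] K := (h z).restrictScalars F ∘ₗ P.subtype
  set H := LinearMap.range f
  set T := (LinearMap.domRestrict' (R := F) (M₂ := F) H) ∘ₗ (LinearMap.mul F K).compr₂ (Algebra.trace F K)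
  -- the twisted scalars of the common part
  let D' : Submodule F K :=
    { carrier := {k | τ k • z ∈ P}
      add_mem' := fun {p q} hp hq => by
        show τ (p + q) • z ∈ P
        rw [map_add, add_smul]; exact P.add_mem hp hq
      zero_mem' := by show τ 0 • z ∈ P; simp
      smul_mem' := fun c p hp => by
        show τ (c • p) • z ∈ P
        rw [S.ext.map_smul', smul_assoc]; exact P.smul_mem _ hp }
  set D := P.comap ((LinearMap.toSpanSingleton K V z).restrictScalars F)
  have hDD : finrank F D = finrank F D' := by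
    have e : Nat.card D = Nat.card D' := Nat.card_congr
      { toFun := fun k => ⟨τ k, show τ (τ k) • z ∈ P by rw [S.ext.conjK.invol]; exact k.2⟩
        invFun := fun k => ⟨τ k, k.2⟩
        left_inv := fun k => Subtype.ext (S.ext.conjK.invol _)
        right_inv := fun k => Subtype.ext (S.ext.conjK.invol _) }
    rw [Module.natCard_eq_pow_finrank (K := F) (V := D), Module.natCard_eq_pow_finrank (K := F) (V := D')] at e
    exact Nat.pow_right_injective Finite.one_lt_card e
  have hfinP : finrank F P = finrank F K := finrank_image_line g ha0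
  have hker' : finrank F (LinearMap.ker f) ≤ finrank F D := by
    let m : D →ₗ[F] V := (LinearMap.toSpanSingleton K V z).restrictScalars F ∘ₗ D.subtype
    have hm : (LinearMap.ker f).map P.subtype ≤ LinearMap.range m := by
      rintro _ ⟨x, hx, rfl⟩
      obtain ⟨k, hk⟩ := mem_line.1 (hker _ x.2 hx)
      exact ⟨⟨k, show k • z ∈ P by rw [hk]; exact x.2⟩, hk⟩
    have h1 := Submodule.finrank_mono hm
    rw [Submodule.finrank_map_subtype_eq] at h1
    exact h1.trans (LinearMap.finrank_range_le m)
  have hle : D' ≤ LinearMap.ker T := fun k hk => by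
    refine LinearMap.mem_ker.2 (LinearMap.ext fun y => ?_)
    obtain ⟨⟨x, hx⟩, hxy⟩ := y.2
    have h1 := S.image_isotropic g haa hk hx
    rw [S.eq, map_smulₛₗ, LinearMap.smul_apply, S.ext.conjK.invol, smul_eq_mul,
      show h z x = (y : K) from hxy] at h1
    simpa [T] using h1
  have h1 := finrank_trace_annihilator H
  have h2 := LinearMap.finrank_range_add_finrank_ker f
  change finrank F H + finrank F (LinearMap.ker T) = _ at h1
  change finrank F H + _ = _ at h2
  have heq := Submodule.eq_of_le_of_finrank_le hle (by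
    change finrank F (LinearMap.ker T) ≤ finrank F D'
    omega)
  have hmem : τ l ∈ D' := by
    rw [heq]
    refine LinearMap.mem_ker.2 (LinearMap.ext fun y => ?_)
    obtain ⟨⟨x, hx⟩, hxy⟩ := y.2
    have := hl x hx
    rw [show h z x = (y : K) from hxy] at this
    simpa [T] using this
  have : τ (τ l) • z ∈ P := hmem
  rwa [S.ext.conjK.invol] at this

end CfsgLib.Classical.FieldExtUnitary
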